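import Mathlib

/-!
Counting lemmas for elements of prime power order and for a group acting freely by conjugation.
-/

set_option autoImplicit false

namespace CfsgLib.StrongCrit.CentralThree

open MulAction

universe u v

variable {G : Type u} [Group G]

/-- An element of `p`-power order generates a `p`-group. -/
theorem isPGroup_zpowers_of_pow {x : G} {p : ℕ} (hx : ∃ i : ℕ, orderOf x = p ^ i) :
    IsPGroup p (Subgroup.zpowers x) := by
  obtain ⟨i, hi⟩ := hx
  exact IsPGroup.of_card (n := i) (by rw [Nat.card_zpowers, hi])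

/-- An element of `p`-power order permuting points fixes one of an invariant set of size prime to
`p`. -/
theorem exists_fixed_point_of_pow {Ω : Type v} [MulAction G Ω] [Finite Ω] {x : G} {p : ℕ}
    [Fact p.Prime] (hx : ∃ i : ℕ, orderOf x = p ^ i) {X : Set Ω} (hX : ∀ z ∈ X, x • z ∈ X)
    (hp : ¬ p ∣ X.ncard) : ∃ z ∈ X, x • z = z := by
  have hX' : ∀ g ∈ Subgroup.zpowers x, ∀ z ∈ X, g • z ∈ X := by
    have hinv : ∀ z ∈ X, x⁻¹ • z ∈ X := by
      intro z hz
      have h1 : (fun w => x • w) '' X = X :=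
        Set.eq_of_subset_of_ncard_le (by rintro _ ⟨w, hw, rfl⟩; exact hX w hw)
          (by rw [Set.ncard_image_of_injective _ (MulAction.injective x)]) (Set.toFinite _)
      obtain ⟨w, hw, rfl⟩ := h1.symm.subset hz
      rwa [inv_smul_smul]
    intro g hg
    rw [Subgroup.zpowers_eq_closure] at hg
    induction hg using Subgroup.closure_induction'' with
    | mem g hg => obtain rfl : g = x := hg; exact hX
    | inv_mem g hg => obtain rfl : g = x := hg; exact hinv
    | one => exact fun z hz => by rwa [one_smul]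
    | mul a b _ _ ha hb => exact fun z hz => by rw [mul_smul]; exact ha _ (hb z hz)
  let act : MulAction (Subgroup.zpowers x) X :=
    { smul := fun g z => ⟨(g : G) • z.1, hX' g g.2 z.1 z.2⟩
      one_smul := fun z => Subtype.ext (one_smul G z.1)
      mul_smul := fun g g' z => Subtype.ext (mul_smul (g : G) (g' : G) z.1) }
  obtain ⟨z, hz⟩ := (isPGroup_zpowers_of_pow hx).nonempty_fixed_point_of_prime_not_dvd_card X
    (by rwa [Nat.card_coe_set_eq])
  exact ⟨z.1, z.2, congrArg Subtype.val (hz ⟨x, Subgroup.mem_zpowers x⟩)⟩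

/-- An element of `p`-power order normalising a set of size prime to `p` centralises one of its
members. -/
theorem exists_commute_of_pow [Finite G] {x : G} {p : ℕ} [Fact p.Prime]
    (hx : ∃ i : ℕ, orderOf x = p ^ i) {X : Set G} (hX : ∀ s ∈ X, x * s * x⁻¹ ∈ X)
    (hp : ¬ p ∣ X.ncard) : ∃ s ∈ X, Commute x s := by
  obtain ⟨i, hi⟩ := hx
  have hxc : ∃ j : ℕ, orderOf (ConjAct.toConjAct x) = p ^ j :=
    ⟨i, (MulEquiv.orderOf_eq ConjAct.toConjAct x).trans hi⟩
  obtain ⟨s, hs, hs'⟩ := exists_fixed_point_of_pow (Ω := G) hxc (X := X)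
    (fun s hs => by rw [ConjAct.toConjAct_smul]; exact hX s hs) hp
  rw [ConjAct.toConjAct_smul] at hs'
  exact ⟨s, hs, mul_inv_eq_iff_eq_mul.1 hs'⟩

/-- The elements of a `p`-invariant subgroup centralised by an element of `p`-power order have the
size of the subgroup modulo `p`. -/
theorem card_centralizer_modEq [Finite G] {x : G} {p : ℕ} [Fact p.Prime]
    (hx : ∃ i : ℕ, orderOf x = p ^ i) {P : Subgroup G} (hP : ∀ g ∈ P, x * g * x⁻¹ ∈ P) :
    Nat.card P ≡ Nat.card (P ⊓ Subgroup.centralizer {x} : Subgroup G) [MOD p] := by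
  have hP' : ∀ g ∈ Subgroup.zpowers x, ∀ h ∈ P, g * h * g⁻¹ ∈ P := by
    have hinv : ∀ h ∈ P, x⁻¹ * h * x ∈ P := by
      intro h hh
      have h1 : (fun w => x * w * x⁻¹) '' (P : Set G) = P :=
        Set.eq_of_subset_of_ncard_le (by rintro _ ⟨w, hw, rfl⟩; exact hP w hw)
          (by rw [Set.ncard_image_of_injective _ fun a b e => by simpa using e]) (Set.toFinite _)
      obtain ⟨w, hw, rfl⟩ := h1.symm.subset hh
      simpa [mul_assoc] using hw
    intro g hg
    rw [Subgroup.zpowers_eq_closure] at hg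
    induction hg using Subgroup.closure_induction'' with
    | mem g hg => obtain rfl : g = x := hg; exact hP
    | inv_mem g hg => obtain rfl : g = x := hg; intro h hh; rw [inv_inv]; exact hinv h hh
    | one => exact fun h hh => by simpa using hh
    | mul a b _ _ ha hb =>
      intro h hh
      rw [show a * b * h * (a * b)⁻¹ = a * (b * h * b⁻¹) * a⁻¹ by group]
      exact ha _ (hb h hh)
  let act : MulAction (Subgroup.zpowers x) P :=
    { smul := fun g h => ⟨(g : G) * h * (g : G)⁻¹, hP' g g.2 h h.2⟩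
      one_smul := fun h => Subtype.ext (by show (1 : G) * h * (1 : G)⁻¹ = h; simp)
      mul_smul := fun g g' h => Subtype.ext (by
        show (g : G) * g' * h * ((g : G) * g')⁻¹ = g * (g' * h * (g' : G)⁻¹) * (g : G)⁻¹
        group) }
  have h1 := (isPGroup_zpowers_of_pow hx).card_modEq_card_fixedPoints P
  have h2 : Nat.card (fixedPoints (Subgroup.zpowers x) P) =
      Nat.card (P ⊓ Subgroup.centralizer {x} : Subgroup G) := by
    refine Nat.card_congr
      { toFun := fun h => ⟨(h.1 : G), h.1.2, Subgroup.mem_centralizer_singleton_iff.2 ?_⟩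
        invFun := fun h => ⟨⟨h.1, h.2.1⟩, ?_⟩
        left_inv := fun h => rfl
        right_inv := fun h => rfl }
    · exact (mul_inv_eq_iff_eq_mul.1 (congrArg Subtype.val (h.2 ⟨x, Subgroup.mem_zpowers x⟩))).symm
    · rintro ⟨g, hg⟩
      refine Subtype.ext (mul_inv_eq_iff_eq_mul.2 ?_)
      obtain ⟨n, rfl⟩ := Subgroup.mem_zpowers_iff.1 hg
      exact ((show Commute x (h.1 : G) from
        (Subgroup.mem_centralizer_singleton_iff.1 h.2.2).symm).zpow_left n).eq
  rwa [h2] at h1

/-- A group acting by conjugation without fixed elements on an invariant set divides its size. -/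
theorem card_dvd_of_free [Finite G] {J : Subgroup G} {X : Set G}
    (hX : ∀ j ∈ J, ∀ g ∈ X, j * g * j⁻¹ ∈ X)
    (hfree : ∀ j ∈ J, ∀ g ∈ X, j * g * j⁻¹ = g → j = 1) : Nat.card J ∣ X.ncard := by
  let act : MulAction J X :=
    { smul := fun j g => ⟨(j : G) * g * (j : G)⁻¹, hX j j.2 g g.2⟩
      one_smul := fun g => Subtype.ext (by show (1 : G) * g * (1 : G)⁻¹ = g; simp)
      mul_smul := fun i j g => Subtype.ext (by
        show (i : G) * j * g * ((i : G) * j)⁻¹ = i * (j * g * (j : G)⁻¹) * (i : G)⁻¹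
        group) }
  have hst : ∀ g : X, stabilizer J g = ⊥ := fun g =>
    (Subgroup.eq_bot_iff_forall _).2 fun j hj =>
      Subtype.ext (hfree j j.2 g g.2 (congrArg Subtype.val hj))
  have : Fintype (Quotient (orbitRel J X)) := Fintype.ofFinite _
  have h1 : X.ncard = ∑ o : Quotient (orbitRel J X), Nat.card J := by
    rw [← Nat.card_coe_set_eq, Nat.card_congr (selfEquivSigmaOrbits J X), Nat.card_sigma]
    refine Finset.sum_congr rfl fun o _ => ?_
    rw [← Subgroup.index_bot (G := J), ← hst o.out, index_stabilizer, Nat.card_coe_set_eq]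
  rw [h1]
  exact Finset.dvd_sum fun o _ => dvd_rfl

/-- If `2 ^ e - 1` divides `2 ^ i - 1` then `e` divides `i`. -/
theorem dvd_of_pred_dvd {e i : ℕ} (he : 2 ≤ e) (h : 2 ^ e - 1 ∣ 2 ^ i - 1) (hi : i ≤ 2 * e) :
    i = 0 ∨ i = e ∨ i = 2 * e := by
  have h1 : Nat.gcd (2 ^ e - 1) (2 ^ i - 1) = 2 ^ Nat.gcd e i - 1 := Nat.pow_sub_one_gcd_pow_sub_one 2 e i
  rw [Nat.gcd_eq_left h] at h1
  have h2 : e = Nat.gcd e i := by
    have h3 : 2 ^ e = 2 ^ Nat.gcd e i := by
      have := Nat.one_le_two_pow (n := e)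
      have := Nat.one_le_two_pow (n := Nat.gcd e i)
      omega
    exact Nat.pow_right_injective le_rfl h3
  obtain ⟨k, rfl⟩ : e ∣ i := h2 ▸ Nat.gcd_dvd_right e i
  have : k ≤ 2 := by nlinarith
  interval_cases k <;> omega

/-- A subgroup containing a group of order `q = 2 ^ e` outside which `q - 1` elements act freely has
order `q`, `q ^ 2` or `q ^ 3`, if at most `q ^ 3`. -/
theorem card_cases [Finite G] {e : ℕ} (he : 2 ≤ e) {F E J : Subgroup G} (hF : IsPGroup 2 F)
    (hEF : E ≤ F) (hE : Nat.card E = 2 ^ e) (hJ : Nat.card J = 2 ^ e - 1)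
    (hle : Nat.card F ≤ (2 ^ e) ^ 3) (hX : ∀ j ∈ J, ∀ g ∈ F, j * g * j⁻¹ ∈ F)
    (hXE : ∀ j ∈ J, ∀ g ∈ E, j * g * j⁻¹ ∈ E)
    (hfree : ∀ j ∈ J, ∀ g ∈ F, g ∉ E → j * g * j⁻¹ = g → j = 1) :
    Nat.card F = 2 ^ e ∨ Nat.card F = (2 ^ e) ^ 2 ∨ Nat.card F = (2 ^ e) ^ 3 := by
  haveI : Fact (Nat.Prime 2) := ⟨Nat.prime_two⟩
  obtain ⟨n, hn⟩ := hF.exists_card_eq
  have hen : 2 ^ e ∣ 2 ^ n := by rw [← hE, ← hn]; exact Subgroup.card_dvd_of_le hEF
  obtain ⟨i, rfl⟩ := Nat.exists_eq_add_of_le ((Nat.pow_dvd_pow_iff_le_right (by norm_num)).1 hen)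
  have hi : i ≤ 2 * e := by
    rw [hn, ← pow_mul] at hle
    have := (Nat.pow_le_pow_iff_right (by norm_num : 1 < 2)).1 hle
    omega
  have hd : 2 ^ e - 1 ∣ 2 ^ i - 1 := by
    have h1 : Nat.card J ∣ ((F : Set G) \ E).ncard := by
      refine card_dvd_of_free (fun j hj g hg => ⟨hX j hj g hg.1, fun h => hg.2 ?_⟩)
        (fun j hj g hg => hfree j hj g hg.1 hg.2)
      have h2 := hXE j⁻¹ (inv_mem hj) _ h
      simpa [mul_assoc] using h2
    rw [Set.ncard_sdiff (SetLike.coe_subset_coe.2 hEF), ← Nat.card_coe_set_eq (F : Set G),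
      ← Nat.card_coe_set_eq (E : Set G)] at h1
    change Nat.card J ∣ Nat.card F - Nat.card E at h1
    rw [hJ, hn, hE, pow_add, ← Nat.mul_sub_one] at h1
    refine Nat.Coprime.dvd_of_dvd_mul_left ?_ h1
    refine Nat.Coprime.pow_right _ (Nat.coprime_two_right.2 ?_)
    obtain ⟨e', rfl⟩ : ∃ e', e = e' + 1 := ⟨e - 1, by omega⟩
    exact ⟨2 ^ e' - 1, by rw [pow_succ]; have := Nat.one_le_two_pow (n := e'); omega⟩
  rcases dvd_of_pred_dvd he hd hi with rfl | rfl | rfl
  · exact Or.inl (by rw [hn, add_zero])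
  · exact Or.inr (Or.inl (by rw [hn, ← pow_mul, Nat.mul_two]))
  · exact Or.inr (Or.inr (by rw [hn, ← pow_mul]; congr 1; ring))

end CfsgLib.StrongCrit.CentralThree
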