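import Cfsg.Agent.Lib.StrongCrit.Endgame

/-!
Elementary facts in the central case of Aschbacher's criterion.
-/

set_option autoImplicit false

namespace CfsgLib.StrongCrit.CentralThree

open CfsgLib.Involutions MulAction

universe u

variable {G : Type u} [Group G] [Finite G] {Ω : Type u} [MulAction G Ω] [Finite Ω] {Z : Set G}
  {a e : ℕ}

theorem one_lt_memAt (hCC : CentralCase Ω Z a e) (c : Ω) : 1 < (memAt Z c).ncard :=
  hCC.crit.one_lt_memAt hCC.pure hCC.exists_bad c

theorem secComm (hCC : CentralCase Ω Z a e) : SecComm Ω Z := hCC.crit.secComm hCC.pure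

theorem four_le (hCC : CentralCase Ω Z a e) : 4 ≤ 2 ^ e :=
  (Nat.pow_le_pow_right two_pos hCC.two_le : 2 ^ 2 ≤ 2 ^ e)

theorem mem_memGroup (hCC : CentralCase Ω Z a e) {c : Ω} {g : G} :
    g ∈ memGroup Z c ↔ g = 1 ∨ g ∈ memAt Z c :=
  hCC.crit.base.mem_memGroup_iff hCC.crit.faith hCC.comm

theorem card_memGroup (hCC : CentralCase Ω Z a e) (c : Ω) :
    Nat.card (memGroup Z c) = 2 ^ e := by
  rw [hCC.crit.base.card_memGroup hCC.crit.faith hCC.comm c, hCC.card_mem c]

theorem bMem_eq (hCC : CentralCase Ω Z a e) {w : G} (hw : IsBad Ω w) {c : Ω} (hc : w • c = c) :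
    bMem Z c w = memAt Z c :=
  Set.ext fun t => ⟨And.left, fun ht => ⟨ht, hCC.central w hw c hc t ht⟩⟩

theorem commute_memGroup (hCC : CentralCase Ω Z a e) {w : G} (hw : IsBad Ω w) {c : Ω}
    (hc : w • c = c) {g : G} (hg : g ∈ memGroup Z c) : Commute w g := by
  rcases (mem_memGroup hCC).1 hg with rfl | hg
  · exact Commute.one_right w
  · exact hCC.central w hw c hc g hg

/-- A bad involution fixes `q ^ a` points besides each of its points. -/
theorem ncard_fix_sdiff (hCC : CentralCase Ω Z a e) {w : G} (hw : IsBad Ω w) {c : Ω}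
    (hc : w • c = c) : (fixedBy Ω w \ {c}).ncard = (2 ^ e) ^ a := by
  have h1 := Set.ncard_sdiff_singleton_add_one (s := fixedBy Ω w) hc (Set.toFinite _)
  rw [hCC.card_fix w hw, pow_mul] at h1
  omega

/-- The fixed sets of two bad involutions are equal if one contains the other. -/
theorem fixedBy_eq_of_subset (hCC : CentralCase Ω Z a e) {w w' : G} (hw : IsBad Ω w)
    (hw' : IsBad Ω w') (h : fixedBy Ω w ⊆ fixedBy Ω w') : fixedBy Ω w = fixedBy Ω w' :=
  Set.eq_of_subset_of_ncard_le h (by rw [hCC.card_fix w hw, hCC.card_fix w' hw']) (Set.toFinite _)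

/-- An involution fixing two points is bad. -/
theorem isBad_of_two {w : G} (hw : orderOf w = 2) {c y : Ω} (hc : w • c = c) (hy : w • y = y)
    (hyc : y ≠ c) : IsBad Ω w :=
  ⟨hw, y, c, hyc, hy, hc⟩

end CfsgLib.StrongCrit.CentralThree
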