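import Cfsg.Agent.Lib.StrongCrit.SectionCore
import Cfsg.Agent.Lib.BenderQ.Classify
import Cfsg.Agent.Lib.RankOneTwo.Groups

/-!
A section with central kernel: its 2-group at a point and the rank one set-up of the image.
-/

set_option autoImplicit false

namespace CfsgLib.StrongCrit.CentralThree

open CfsgLib.Involutions CfsgLib.BenderTrans CfsgLib.BenderQ MulAction

universe u

variable {G : Type u} [Group G] [Finite G] {Ω : Type u} [MulAction G Ω] [Finite Ω]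
  {L : Subgroup G} {F : Set Ω}

/-- With a central kernel the elements of 2-power order at a point form a subgroup, regular on the
other points. -/
theorem exists_twoGroup_central (hS : SectSetting L F)
    (hker : ∀ k ∈ L, (∀ z ∈ F, k • z = z) → ∀ g ∈ L, Commute k g) {c : Ω} (hc : c ∈ F) :
    ∃ T : Subgroup G, IsPGroup 2 T ∧
      (∀ g : G, g ∈ T ↔ g ∈ L ∧ g • c = c ∧ ∃ j : ℕ, g ^ 2 ^ j = 1) ∧
      (∀ y ∈ F, ∀ z ∈ F, y ≠ c → z ≠ c → ∃ g ∈ T, g • y = z) ∧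
      (∀ g ∈ T, ∀ y ∈ F, y ≠ c → g • y = y → g = 1) ∧
      (∀ a ∈ T, ∀ g ∈ T, orderOf a = 2 → Commute a g) := by
  obtain ⟨T, hTL, hT2, hTc, htr, hfree, hcent, -, -⟩ := hS.exists_twoGroup hc
  refine ⟨T, hT2, fun g => ⟨fun hg => ?_, ?_⟩, htr, hfree, hcent⟩
  · obtain ⟨j, hj⟩ := hT2 ⟨g, hg⟩
    exact ⟨hTL hg, hTc g hg, j, congrArg Subtype.val hj⟩
  rintro ⟨hgL, hgc, j, hj⟩
  obtain ⟨y, hy, hyc⟩ := hS.two c hc
  have hgyc : g • y ≠ c := fun e => hyc (MulAction.injective g (e.trans hgc.symm))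
  obtain ⟨t, ht, hty⟩ := htr y hy (g • y) (hS.stable g hgL y hy) hyc hgyc
  obtain ⟨Qb, hQb⟩ := hS.exists_kernel ⟨c, hc⟩
  set f := hS.toPerm.rangeRestrict
  have hmem : ∀ x : G, ∀ hx : x ∈ L, x • c = c → (∃ j : ℕ, x ^ 2 ^ j = 1) → f ⟨x, hx⟩ ∈ Qb :=
    fun x hx hxc ⟨j, hj⟩ => mem_kernel_of_two hS.oneFix hQb (Subtype.ext hxc) (j := j) (by
      rw [← map_pow, show (⟨x, hx⟩ : L) ^ 2 ^ j = 1 from Subtype.ext hj, map_one])
  obtain ⟨i, hi⟩ := hT2 ⟨t, ht⟩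
  have hti : t ^ 2 ^ i = 1 := congrArg Subtype.val hi
  have h1 : f ((⟨t, hTL ht⟩ : L)⁻¹ * ⟨g, hgL⟩) = 1 := by
    rw [map_mul, map_inv]
    refine hQb.free _ (mul_mem (inv_mem (hmem t (hTL ht) (hTc t ht) ⟨i, hti⟩))
      (hmem g hgL hgc ⟨j, hj⟩)) ⟨y, hy⟩ (fun e => hyc (congrArg Subtype.val e)) (Subtype.ext ?_)
    show t⁻¹ • g • y = y
    rw [← hty, inv_smul_smul]
  have hkfix := hS.toPerm_eq_one.1 (congrArg Subtype.val h1)
  have hkL : t⁻¹ * g ∈ L := mul_mem (inv_mem (hTL ht)) hgL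
  have hk1 : t⁻¹ * g = 1 := by
    have hct : Commute (t⁻¹ * g) t := hker _ hkL hkfix t (hTL ht)
    have h2 : (t⁻¹ * g) ^ 2 ^ (i + j) = 1 := by
      have h3 : g ^ 2 ^ (i + j) = 1 := by rw [pow_add, mul_comm, pow_mul, hj, one_pow]
      have h4 : t ^ 2 ^ (i + j) = 1 := by rw [pow_add, pow_mul, hti, one_pow]
      rw [show g = t * (t⁻¹ * g) by group, hct.symm.mul_pow, h4, one_mul] at h3
      exact h3
    exact orderOf_eq_one_iff.1 (Nat.eq_one_of_dvd_coprimes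
      (Nat.Coprime.pow_left _ (Nat.coprime_two_left.2 (hS.odd_ker _ hkL hkfix)))
      (orderOf_dvd_of_pow_eq_one h2) dvd_rfl)
  rwa [inv_mul_eq_one.1 hk1] at ht

/-- The image of the section is a rank one set-up whose kernel is the image of `T`, with the
involution subgroup the image of the involutions of `T`. -/
theorem exists_setup (hS : SectSetting L F) {c : Ω} (hc : c ∈ F) {T E : Subgroup G}
    (hmem : ∀ g : G, g ∈ T ↔ g ∈ L ∧ g • c = c ∧ ∃ j : ℕ, g ^ 2 ^ j = 1)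
    (htr : ∀ y ∈ F, ∀ z ∈ F, y ≠ c → z ≠ c → ∃ g ∈ T, g • y = z)
    (hfree : ∀ g ∈ T, ∀ y ∈ F, y ≠ c → g • y = y → g = 1)
    (hE : ∀ g : G, g ∈ E ↔ g ∈ T ∧ g * g = 1) :
    ∃ (hTL : T ≤ L) (t : hS.toPerm.range)
      (_ : Cfsg.IsRankOneSetup hS.toPerm.range F ⟨c, hc⟩ t
        ((T.subgroupOf L).map hS.toPerm.rangeRestrict)),
      Nat.card ((T.subgroupOf L).map hS.toPerm.rangeRestrict) = Nat.card T ∧
      Nat.card (RankOneTwo.Zsub hS.toPerm.range (⟨c, hc⟩ : F)) = Nat.card E ∧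
      FaithfulSMul hS.toPerm.range F ∧
      (∀ e ∈ E, ∀ h : e ∈ L,
        hS.toPerm.rangeRestrict ⟨e, h⟩ ∈ RankOneTwo.Zsub hS.toPerm.range (⟨c, hc⟩ : F)) ∧
      ∀ g, ∀ hg : g ∈ T, ∀ h, ∀ hh : h ∈ T, hS.toPerm.rangeRestrict ⟨g, hTL hg⟩ =
        hS.toPerm.rangeRestrict ⟨h, hTL hh⟩ → g = h := by
  have hTL : T ≤ L := fun g hg => ((hmem g).1 hg).1
  obtain ⟨Qb, hQb⟩ := hS.exists_kernel ⟨c, hc⟩
  obtain ⟨y, hy, hyc⟩ := hS.two c hc
  set f := hS.toPerm.rangeRestrict with hf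
  have hmemQ : ∀ g, ∀ hg : g ∈ T, f ⟨g, hTL hg⟩ ∈ Qb := fun g hg => by
    obtain ⟨-, hgc, j, hj⟩ := (hmem g).1 hg
    exact mem_kernel_of_two hS.oneFix hQb (Subtype.ext hgc) (j := j) (by
      rw [← map_pow, show (⟨g, hTL hg⟩ : L) ^ 2 ^ j = 1 from Subtype.ext hj, map_one])
  have hinj : ∀ g, ∀ hg : g ∈ T, ∀ h, ∀ hh : h ∈ T,
      f ⟨g, hTL hg⟩ = f ⟨h, hTL hh⟩ → g = h := fun g hg h hh e => by
    have h1 := hfree _ (mul_mem (inv_mem hh) hg) y hy hyc (by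
      rw [mul_smul, hS.same_of_map_eq e y hy, inv_smul_smul])
    exact (inv_mul_eq_one.1 h1).symm
  have himg : (T.subgroupOf L).map f = Qb := by
    refine le_antisymm ?_ fun k hk => ?_
    · rintro _ ⟨g, hg, rfl⟩
      exact hmemQ g hg
    · have hkc : k • (⟨c, hc⟩ : F) = ⟨c, hc⟩ := mem_stabilizer_iff.1 (hQb.le hk)
      have hky : k • (⟨y, hy⟩ : F) ≠ ⟨c, hc⟩ := fun e =>
        hyc (congrArg Subtype.val (MulAction.injective k (e.trans hkc.symm)))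
      obtain ⟨g, hg, hgy⟩ := htr y hy (k • (⟨y, hy⟩ : F) : F) (k • (⟨y, hy⟩ : F) : F).2 hyc
        fun e => hky (Subtype.ext e)
      refine ⟨⟨g, hTL hg⟩, hg, inv_mul_eq_one.1 (hQb.free _ (mul_mem (inv_mem (hmemQ g hg)) hk)
        ⟨y, hy⟩ (fun e => hyc (congrArg Subtype.val e)) ?_)⟩
      rw [mul_smul, inv_smul_eq_iff]
      exact Subtype.ext hgy.symm
  obtain ⟨t, ht⟩ := exists_rankOneSetup hS.oneFix hQb
  have hfs : FaithfulSMul hS.toPerm.range F := ⟨fun {g₁ g₂} e =>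
    inv_mul_eq_one.1 (hS.faith _ fun x => by rw [mul_smul, ← e, inv_smul_smul])⟩
  have hEL : E ≤ L := fun g hg => hTL ((hE g).1 hg).1
  have hZ : RankOneTwo.Zsub hS.toPerm.range (⟨c, hc⟩ : F) = (E.subgroupOf L).map f := by
    refine le_antisymm ((Subgroup.closure_le _).2 ?_) ?_
    · rintro k ⟨hkc, hk1, hkk⟩
      obtain ⟨⟨g, hgL⟩, hg, rfl⟩ : k ∈ (T.subgroupOf L).map f := by
        rw [himg]
        exact hQb.invol_mem hS.oneFix ⟨orderOf_eq_two_iff_mul.2 ⟨hk1, hkk⟩,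
          mem_stabilizer_iff.1 hkc⟩
      refine ⟨⟨g, hgL⟩, (hE g).2 ⟨hg, ?_⟩, rfl⟩
      refine hinj _ (mul_mem hg hg) 1 (one_mem T) ?_
      show f (⟨g, hgL⟩ * ⟨g, hgL⟩) = f 1
      rw [map_mul, map_one, hkk]
    · rintro _ ⟨⟨g, hgL⟩, hg, rfl⟩
      obtain ⟨hgT, hgg⟩ := (hE g).1 hg
      rcases eq_or_ne (f ⟨g, hgL⟩) 1 with h1 | h1
      · rw [h1]; exact one_mem _
      · refine Subgroup.subset_closure ⟨hQb.le (hmemQ g hgT), h1, ?_⟩
        rw [← map_mul, show (⟨g, hgL⟩ : L) * ⟨g, hgL⟩ = 1 from Subtype.ext hgg, map_one]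
  have hcard : ∀ S : Subgroup G, ∀ hST : S ≤ T,
      Nat.card ((S.subgroupOf L).map f) = Nat.card S := fun S hST => by
    symm
    refine Nat.card_congr (Equiv.ofBijective
      (fun s : S => (⟨f ⟨s, hTL (hST s.2)⟩, Subgroup.mem_map_of_mem f s.2⟩ :
        (S.subgroupOf L).map f)) ⟨fun a b e => Subtype.ext ?_, ?_⟩)
    · exact hinj a (hST a.2) b (hST b.2) (congrArg Subtype.val e)
    · rintro ⟨_, g, hg, rfl⟩
      exact ⟨⟨g, hg⟩, rfl⟩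
  refine ⟨hTL, t, himg ▸ ht, hcard T le_rfl, ?_, hfs, fun e he h => ?_, hinj⟩
  · rw [hZ]; exact hcard E fun g hg => ((hE g).1 hg).1
  · rw [hZ]; exact Subgroup.mem_map_of_mem f (show (⟨e, h⟩ : L) ∈ E.subgroupOf L from he)

end CfsgLib.StrongCrit.CentralThree
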