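import Cfsg.Agent.Lib.RankOneRecog.Unitary.Exists
import Cfsg.Agent.Lib.RankOneRecog.Unitary.Coord

/-!
The torus element of the unitary case: in a rank one set-up with `|Q| = q ^ 3` some element of odd
prime order dividing `q + 1` fixes the two points and centralises the involutions at the first.
-/

set_option autoImplicit false
set_option linter.unusedSectionVars false
set_option linter.style.haveILetI false

noncomputable section

namespace CfsgLib.StrongCrit.CentralThree

open Matrix CfsgLib.InvCharThree CfsgLib.ClassicalGroups CfsgLib.RankOneRecog.Unitary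
  CfsgLib.RankOneRecog.Unitary.Model
  CfsgLib.RankOneInvol CfsgLib.RankOneTwo

universe u v

variable {F : Type*} [Field F] [Fintype F] {q : ℕ}

/-- An element of the field of order `d` dividing `q + 1` has a norm one power. -/
theorem exists_norm_one (hF : Fintype.card F = q ^ 2) {d : ℕ} (hd : d ∣ q + 1) :
    ∃ l : F, l ≠ 0 ∧ orderOf l = d ∧ l ^ q * l = 1 := by
  classical
  obtain ⟨ζ, hζ⟩ := IsCyclic.exists_generator (α := Fˣ)
  have hcard : orderOf ζ = q ^ 2 - 1 := by
    rw [orderOf_eq_card_of_forall_mem_zpowers hζ, Nat.card_eq_fintype_card, Fintype.card_units, hF]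
  have hdc : d ∣ orderOf ζ := by
    rw [hcard, show q ^ 2 - 1 = q ^ 2 - 1 ^ 2 by rw [one_pow], Nat.sq_sub_sq]
    exact hd.mul_right _
  set u := ζ ^ (orderOf ζ / d)
  have hu : orderOf u = d := orderOf_pow_orderOf_div (orderOf_pos ζ).ne' hdc
  refine ⟨u, u.ne_zero, by rw [orderOf_units, hu], ?_⟩
  rw [← pow_succ, ← Units.val_pow_eq_pow_val, orderOf_dvd_iff_pow_eq_one.1 (hu ▸ hd), Units.val_one]

/-- In `PSU₃(q)` acting on the unital an element of odd prime order dividing `q + 1` fixes two points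
and commutes with the transvections at the first. -/
theorem exists_torus_elt {G Ω : Type*} [Group G] [Finite G] [MulAction G Ω] [FaithfulSMul G Ω]
    {hF : Fintype.card F = q ^ 2} {he : Even q} (D : UnitalData G Ω F q hF he)
    {n : ℕ} (hn : 2 ≤ n) (hqn : q = 2 ^ n) :
    ∃ (γ : G) (p : ℕ), p.Prime ∧ p ≠ 2 ∧ p ∣ q + 1 ∧ orderOf γ = p ∧ γ • D.a = D.a ∧ γ • D.b = D.b ∧
      ∀ x : Herm F q, x.a = 0 → letI := hermGroup hF he; Commute γ (D.u x) := by
  classical
  let _ := hermGroup hF he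
  have hq4 : 4 ≤ q := hqn ▸ le_trans (by norm_num) (Nat.pow_le_pow_right two_pos hn)
  obtain ⟨c, hc⟩ := exists_trace hF (b := (1 : F)) (one_pow q)
  obtain ⟨φ, hφi, hφ⟩ := D.exists_hom hc
  obtain ⟨iso⟩ := D.nonempty_mulEquiv n hn hqn
  have hbij : Function.Bijective φ :=
    (Nat.bijective_iff_injective_and_card φ).2 ⟨hφi, Nat.card_congr iso.toEquiv⟩
  -- the orders
  obtain ⟨p, d, hp, hpq, hd, hd3, hdp⟩ : ∃ p d : ℕ, p.Prime ∧ p ∣ q + 1 ∧ d ∣ q + 1 ∧ ¬ d ∣ 3 ∧
      d ∣ 3 * p := by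
    by_cases h9 : 9 ∣ q + 1
    · exact ⟨3, 9, Nat.prime_three, (show 3 ∣ 9 by norm_num).trans h9, h9, by decide, dvd_rfl⟩
    obtain ⟨p, hp, hpq, hp3⟩ : ∃ p : ℕ, p.Prime ∧ p ∣ q + 1 ∧ p ≠ 3 := by
      by_contra hall
      push Not at hall
      obtain ⟨p, hp, hpq⟩ := Nat.exists_prime_and_dvd (show q + 1 ≠ 1 by omega)
      obtain rfl := hall p hp hpq
      obtain ⟨m, hm⟩ := hpq
      obtain ⟨r, hr, hrm⟩ := Nat.exists_prime_and_dvd (show m ≠ 1 by omega)
      obtain rfl := hall r hr (hm ▸ hrm.mul_left 3)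
      obtain ⟨m', rfl⟩ := hrm
      exact h9 ⟨m', by omega⟩
    exact ⟨p, p, hp, hpq, hpq, fun h => hp3 ((Nat.prime_dvd_prime_iff_eq hp Nat.prime_three).1 h),
      dvd_mul_left _ _⟩
  have hp2 : p ≠ 2 := by
    rintro rfl
    obtain ⟨k, rfl⟩ := he
    omega
  obtain ⟨l, hl0, hlo, hln⟩ := exists_norm_one hF hd
  -- the diagonal matrix
  let s : Fin 3 → F := ![l, l, (l ^ 2)⁻¹]
  have hs : ∀ i, s i ^ q * s i = 1 := by
    intro i
    fin_cases i
    · exact hln
    · exact hln
    · show ((l ^ 2)⁻¹) ^ q * (l ^ 2)⁻¹ = 1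
      rw [inv_pow, ← mul_inv, ← pow_mul, mul_comm 2 q, pow_mul, ← mul_pow, hln, one_pow, inv_one]
  have hdet : (Matrix.diagonal s).det = 1 := by
    simp [Matrix.det_diagonal, Fin.prod_univ_three, s]
    field_simp
  let g : Cfsg.SU 3 F q := ⟨⟨Matrix.diagonal s, hdet⟩, mem_SU_iff.2 fun x y => by
    simp only [Cfsg.hermForm, Matrix.mulVec_diagonal, mul_pow]
    exact Finset.sum_congr rfl fun i _ => by linear_combination (x i * y i ^ q) * hs i⟩
  have g1 : g.1.1 *ᵥ einf = l • (einf : Fin 3 → F) := by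
    ext i; show (Matrix.diagonal s *ᵥ einf) i = _
    rw [Matrix.mulVec_diagonal]; fin_cases i <;> simp [s, einf]
  have g2 : g.1.1 *ᵥ ezero c = l • ezero c := by
    ext i; show (Matrix.diagonal s *ᵥ ezero c) i = _
    rw [Matrix.mulVec_diagonal]; fin_cases i <;> simp [s, ezero]
  have g3 : g.1.1 *ᵥ etwo = (l ^ 2)⁻¹ • (etwo : Fin 3 → F) := by
    ext i; show (Matrix.diagonal s *ᵥ etwo) i = _
    rw [Matrix.mulVec_diagonal]; fin_cases i <;> simp [s, etwo]
  obtain ⟨γ, hγ⟩ := hbij.2 (QuotientGroup.mk g)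
  have hover : D.Over c γ g := by
    obtain ⟨g', hg'⟩ := D.exists_over hc γ γ.2
    have hz : g'⁻¹ * g ∈ Subgroup.center (Cfsg.SU 3 F q) :=
      QuotientGroup.eq.1 ((hφ γ g' hg').symm.trans hγ)
    have hone : D.Over c 1 (g'⁻¹ * g) := by
      intro o o' h
      rw [one_smul] at h
      obtain rfl := D.point_injective h
      have hsc := center_SU_scalar hF ⟨_, hz⟩
      refine ⟨(g'⁻¹ * g).1.1 0 0, ?_⟩
      have hgd : (g'⁻¹ * g).1.1 = (g'⁻¹ * g).1.1 0 0 • (1 : Matrix (Fin 3) (Fin 3) F) := by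
        ext i j
        rcases eq_or_ne i j with rfl | hij
        · simpa using (hsc i 0).2
        · simpa [hij] using (hsc i j).1 hij
      conv_lhs => rw [hgd]
      rw [Matrix.smul_mulVec, Matrix.one_mulVec]
    have := D.over_mul hg' hone
    rwa [mul_one, mul_inv_cancel_left] at this
  have hfixpt : ∀ o, g.1.1 *ᵥ Model.pt c o = l • Model.pt c o → (γ : G) • D.point o = D.point o := by
    intro o ho
    obtain ⟨o', ho'⟩ := D.point_surjective ((γ : G) • D.point o)
    obtain ⟨k, hk⟩ := hover o o' ho'.symm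
    rw [ho] at hk
    have : Model.pt c o = (l⁻¹ * k) • Model.pt c o' := by
      rw [mul_smul, ← hk, smul_smul, inv_mul_cancel₀ hl0, one_smul]
    rw [← ho', Model.pt_inj hF he hc this]
  refine ⟨γ, p, hp, hp2, hpq, ?_, ?_, ?_, ?_⟩
  · -- the order
    rw [Subgroup.orderOf_coe, ← orderOf_injective φ hφi, hγ]
    haveI := Fact.mk hp
    refine orderOf_eq_prime ?_ fun h => ?_
    · rw [← QuotientGroup.mk_pow, QuotientGroup.eq_one_iff, Subgroup.mem_center_iff]
      intro k
      have hl3 : (l ^ p) = (((l ^ 2)⁻¹) ^ p) := by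
        have h3 : l ^ (3 * p) = 1 := orderOf_dvd_iff_pow_eq_one.1 (hlo ▸ hdp)
        rw [inv_pow]
        refine eq_inv_of_mul_eq_one_left ?_
        rw [← h3, ← pow_mul, ← pow_add]
        congr 1
        omega
      have hgp : (g ^ p).1.1 = (l ^ p) • (1 : Matrix (Fin 3) (Fin 3) F) := by
        show ((Matrix.diagonal s) ^ p : Matrix (Fin 3) (Fin 3) F) = _
        rw [Matrix.diagonal_pow, ← Matrix.diagonal_one, ← Matrix.diagonal_smul]
        congr 1
        funext i
        fin_cases i <;> simp [s, ← hl3]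
      refine SU_ext fun v => ?_
      rw [SU_mul_mulVec, SU_mul_mulVec, hgp, Matrix.smul_mulVec, Matrix.one_mulVec, Matrix.smul_mulVec,
        Matrix.one_mulVec, Matrix.mulVec_smul]
    · have hsc := center_SU_scalar hF ⟨g, (QuotientGroup.eq_one_iff g).1 h⟩
      have e : l = (l ^ 2)⁻¹ := by
        have h1 := (hsc 0 2).2
        simpa [g, s] using h1
      refine hd3 (hlo ▸ orderOf_dvd_of_pow_eq_one ?_)
      rw [pow_succ']
      nth_rw 1 [e]
      exact inv_mul_cancel₀ (pow_ne_zero _ hl0)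
  · exact hfixpt none g1
  · have hb : D.point (some 1) = D.b := by
      show D.u 1 • D.b = D.b
      rw [map_one, one_smul]
    have hp1 : Model.pt c (some (1 : Herm F q)) = ezero c := by
      simp [Model.pt, herm_one_a hF he, herm_one_b hF he]
    rw [← hb]
    exact hfixpt _ (by rw [hp1]; exact g2)
  · intro x hx
    have z1 : (hermToSU hF he x).1.1 *ᵥ einf = (einf : Fin 3 → F) := Model.herm_einf hF he hc x
    have z2 : (hermToSU hF he x).1.1 *ᵥ ezero c = x.b • einf + ezero c := by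
      show hermMat x *ᵥ ezero c = _
      rw [Model.herm_ezero hF he hc]; simp [Model.pt, hx]
    have z3 : (hermToSU hF he x).1.1 *ᵥ etwo = (etwo : Fin 3 → F) := by
      show hermMat x *ᵥ etwo = _
      rw [Model.herm_etwo hF he hc]
      simp [hx, zero_pow (show q ≠ 0 by omega)]
    have hcomm : g * hermToSU hF he x = hermToSU hF he x * g := by
      refine Model.ext_basis hF he hc ?_ ?_ ?_ <;>
        simp only [SU_mul_mulVec, Matrix.mulVec_add, Matrix.mulVec_smul, g1, g2, g3, z1, z2, z3,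
          smul_add, smul_smul, mul_comm]
    have hmem : D.u x ∈ D.gen := Subgroup.subset_closure (Or.inl ⟨x, rfl⟩)
    have hx' : φ ⟨D.u x, hmem⟩ = QuotientGroup.mk (hermToSU hF he x) := hφ _ _ (D.over_u hc x)
    have : γ * ⟨D.u x, hmem⟩ = ⟨D.u x, hmem⟩ * γ := hφi (by
      rw [map_mul, map_mul, hγ, hx', ← QuotientGroup.mk_mul, ← QuotientGroup.mk_mul, hcomm])
    exact congrArg Subtype.val this

open RankOneRecog.Unitary in
set_option maxHeartbeats 800000 in
/-- In a rank one set-up with `|Q| = q ^ 3`, `Q` non-abelian, some element of odd prime order dividing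
`q + 1` of the two point stabiliser centralises `Zsub`. -/
theorem exists_unitary_torus {G : Type u} [Group G] [Finite G] {Ω : Type v} [MulAction G Ω]
    [FaithfulSMul G Ω] {a : Ω} {t : G} {Q : Subgroup G} (hS : Cfsg.IsRankOneSetup G Ω a t Q)
    (h2 : ∃ x y : G, x ≠ 1 ∧ y ≠ 1 ∧ x ≠ y ∧ x * x = 1 ∧ y * y = 1 ∧ x * y = y * x)
    (hna : ∃ x y : Q, x * y ≠ y * x) (hcard : Nat.card Q = Nat.card (RankOneTwo.Zsub G a) ^ 3) :
    ∃ k ∈ RankOneInvol.twoPt G a t, ∃ p : ℕ, p.Prime ∧ p ≠ 2 ∧ p ∣ Nat.card (RankOneTwo.Zsub G a) + 1 ∧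
      orderOf k = p ∧ ∀ z ∈ RankOneTwo.Zsub G a, Commute k z := by
  classical
  obtain ⟨L, iF, iT, iC, ⟨n, hn, hLn⟩, hLZ, ⟨F⟩⟩ := exists_frame hS h2 hna hcard
  obtain ⟨R, hR⟩ := F.exists_twist
  obtain ⟨K, _, _, _, ⟨T⟩⟩ := exists_torusData R hR.1 hR.2.1 hR.2.2.1
  have hqn : Nat.card L = 2 ^ n := by rw [Nat.card_eq_fintype_card, hLn]
  have hK : Fintype.card K = Nat.card L ^ 2 := by rw [← Nat.card_eq_fintype_card, T.card]
  have he : Even (Nat.card L) := by rw [hqn]; exact Nat.even_pow.2 ⟨even_two, by omega⟩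
  letI := hermGroup hK he
  let E : Q →* Herm K (Nat.card L) :=
    MonoidHom.mk' (fun x => ⟨F.cA T x, F.cB T x, F.coord_rel hR T x.2⟩) fun x y =>
      Herm.ext (F.cA_mul hR T x.2 y.2) (F.cB_mul hR T x.2 y.2)
  have hEinj : Function.Injective E := by
    rw [injective_iff_map_eq_one]
    intro x hx
    have hA : F.cA T x = 0 := congrArg Herm.a hx
    have hB : F.cB T x = 0 := congrArg Herm.b hx
    obtain ⟨c, hc⟩ := F.eq_zc_of_cA hR T x.2 hA
    rw [hc, F.cB_zc hR T, map_eq_zero] at hB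
    exact Subtype.ext (by rw [hc, hB, zc_zero, map_one]; rfl)
  haveI : Finite (Herm K (Nat.card L)) := Nat.finite_of_card_ne_zero (by
    rw [natCard_herm hK he]; exact pow_ne_zero _ Nat.card_pos.ne')
  have hEbij : Function.Bijective E := by
    refine (Nat.bijective_iff_injective_and_card E).2 ⟨hEinj, ?_⟩
    rw [natCard_herm hK he, F.card_cube, F.card_Z, Nat.card_eq_fintype_card]
  let e := MulEquiv.ofBijective E hEbij
  have hinj : ∀ y ∈ Q, ∀ y' ∈ Q, F.cA T y = F.cA T y' → F.cB T y = F.cB T y' → y = y' :=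
    fun y hy y' hy' hA hB => congrArg Subtype.val (hEinj (Herm.ext hA hB :
      E ⟨y, hy⟩ = E ⟨y', hy'⟩))
  let D : UnitalData G Ω K (Nat.card L) hK he :=
    { a := a
      b := t • a
      hab := (ta_ne hS).symm
      u := Q.subtype.comp e.symm.toMonoidHom
      u_a := fun x => Q_smul hS (e.symm x).2
      cover := fun p hp => by
        obtain ⟨y, hy, hyp⟩ := Q_trans hS hp
        refine ⟨e ⟨y, hy⟩, by simpa using hyp, fun x hx => ?_⟩
        refine e.symm.injective (Subtype.ext ?_)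
        rw [MulEquiv.symm_apply_apply]
        exact Q_inj hS (e.symm x).2 hy (hx.trans hyp.symm)
      w := t
      w_sq := hS.mul_self
      w_a := rfl
      w_formula := fun x x' hb hA hB => by
        obtain ⟨y, rfl⟩ := e.surjective x
        obtain ⟨y', rfl⟩ := e.surjective x'
        show t • (e.symm (e y) : G) • t • a = (e.symm (e y') : G) • t • a
        rw [MulEquiv.symm_apply_apply, MulEquiv.symm_apply_apply]
        exact F.t_formula hR T y.2 y'.2 hb hA hB hinj }
  obtain ⟨γ, p, hp, hp2, hpq, hγo, hγa, hγb, hγc⟩ := exists_torus_elt D hn hqn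
  refine ⟨γ, mem_twoPt.2 ⟨hγa, hγb⟩, p, hp, hp2, ?_, hγo, fun z hz => ?_⟩
  · rwa [F.card_Z, ← Nat.card_eq_fintype_card]
  · obtain ⟨c, rfl⟩ := (F.ι_Z z).1 hz
    have h := hγc (e ⟨F.ι (zc c), F.zc_mem_Q c⟩) (F.cA_zc hR T c)
    have e1 : D.u (e ⟨F.ι (zc c), F.zc_mem_Q c⟩) = F.ι (zc c) := by
      show (e.symm (e ⟨F.ι (zc c), F.zc_mem_Q c⟩) : G) = _
      rw [MulEquiv.symm_apply_apply]
    rwa [e1] at h

end CfsgLib.StrongCrit.CentralThree

end
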