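import Cfsg.Agent.Lib.StrongCrit.CentralThree.Defs
import Cfsg.Agent.Lib.StrongCrit.CentralThree.Facts
import Cfsg.Agent.Lib.StrongCrit.CentralThree.Count
import Cfsg.Agent.Lib.StrongCrit.CentralThree.SectImage
import Cfsg.Agent.Lib.StrongCrit.CentralThree.UnitaryTorus

/-!
The data of a bad involution `v` at two of its points in the unitary central case: the kernel, the
torus and an element of odd prime power order dividing `q + 1` centralising the members and the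
torus.
-/

set_option autoImplicit false

namespace CfsgLib.StrongCrit.CentralThree

open CfsgLib.Involutions MulAction

universe u

variable {G : Type u} [Group G] [Finite G] {Ω : Type u} [MulAction G Ω] [Finite Ω] {Z : Set G}
  {e : ℕ}

omit [Finite G] [Finite Ω] in
/-- What commutes with `w` normalises the group of the members commuting with it. -/
theorem conj_mem_memCent (h : Setting Ω Z) {w g x : G} (hwg : Commute w g)
    (hx : x ∈ memCent Z w) : g * x * g⁻¹ ∈ memCent Z w := by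
  have hle : (memCent Z w).map (MulAut.conj g).toMonoidHom ≤ memCent Z w := by
    rw [memCent, MonoidHom.map_closure, Subgroup.closure_le]
    rintro _ ⟨s, hs, rfl⟩
    exact Subgroup.subset_closure
      ⟨h.conj_mem g s hs.1, (hwg.mul_right hs.2).mul_right hwg.inv_right⟩
  exact hle ⟨x, hx, rfl⟩

/-- An element of `p`-power order of the section moving one of its points, centralising the members
at `c` and fixing `c` and `y`. -/
theorem exists_x (hCC : CentralCase Ω Z 3 e) {v : G} (hv : IsBad Ω v) {c y : Ω} (hvc : v • c = c)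
    (hvy : v • y = y) (hyc : y ≠ c) {Q : Subgroup G}
    (hQmem : ∀ g : G, g ∈ Q ↔ g ∈ memCent Z v ∧ g • c = c ∧ ∃ j : ℕ, g ^ 2 ^ j = 1)
    (hcard : Nat.card Q = (2 ^ e) ^ 3) (hna : ∃ x ∈ Q, ∃ y ∈ Q, x * y ≠ y * x) :
    ∃ (x : G) (p : ℕ), p.Prime ∧ p ≠ 2 ∧ p ∣ 2 ^ e + 1 ∧ (∃ i : ℕ, orderOf x = p ^ i) ∧
      x ∈ memCent Z v ∧ x • c = c ∧ x • y = y ∧ (∀ t ∈ memGroup Z c, Commute x t) ∧
      ¬ ∀ z : Ω, v • z = z → x • z = z := by
  have hC := hCC.crit
  have hsc := secComm hCC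
  have hbig := one_lt_memAt hCC
  have hS := hC.sectSetting_bad hsc hbig hv
  obtain ⟨Q', -, hQ'mem, -, htr, hfree, hB, hQB⟩ := hC.exists_sectKernel hsc hbig hv hvc
  obtain rfl : Q' = Q := Subgroup.ext fun g => (hQ'mem g).trans (hQmem g).symm
  have hE : ∀ g : G, g ∈ memGroup Z c ↔ g ∈ Q' ∧ g * g = 1 := by
    intro g
    rw [mem_memGroup hCC]
    constructor
    · rintro (rfl | hg)
      · exact ⟨one_mem _, one_mul 1⟩
      · exact ⟨(hB g (bMem_eq hCC hv hvc ▸ hg)).1, mul_self_eq_one (hC.base.invol g hg.1)⟩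
    · rintro ⟨hg, hgg⟩
      exact or_iff_not_imp_left.2 fun h1 =>
        (hQB g hg (orderOf_eq_two_iff_mul.2 ⟨h1, hgg⟩)).1
  obtain ⟨hTL, t, ht, hcQ, hcZ, hfs, hZmem, hinj⟩ := exists_setup hS (c := c) hvc hQ'mem
    (fun a ha b hb => htr a b ha hb) (fun g hg z hz => hfree g hg z hz) hE
  set f := hS.toPerm.rangeRestrict with hf
  obtain ⟨s₁, s₂, hs₁, hs₂, hne, hcm⟩ := hS.hasFour
  have hna' : ∃ a b : (Q'.subgroupOf (memCent Z v)).map f, a * b ≠ b * a := by
    obtain ⟨a, ha, b, hb, hab⟩ := hna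
    refine ⟨⟨f ⟨a, hTL ha⟩, Subgroup.mem_map_of_mem f ha⟩,
      ⟨f ⟨b, hTL hb⟩, Subgroup.mem_map_of_mem f hb⟩, fun h => hab ?_⟩
    refine hinj _ (mul_mem ha hb) _ (mul_mem hb ha) ?_
    show f (⟨a, hTL ha⟩ * ⟨b, hTL hb⟩) = f (⟨b, hTL hb⟩ * ⟨a, hTL ha⟩)
    rw [map_mul, map_mul]
    exact congrArg Subtype.val h
  obtain ⟨k, hk, p, hp, hp2, hpd, hko, hkZ⟩ := exists_unitary_torus ht
    ⟨s₁, s₂, ne_one_of_involution hs₁, ne_one_of_involution hs₂, hne, mul_self_eq_one hs₁,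
      mul_self_eq_one hs₂, hcm.eq⟩ hna' (by rw [hcQ, hcard, hcZ, card_memGroup hCC c])
  rw [hcZ, card_memGroup hCC c] at hpd
  set y₁ : ({z : Ω | v • z = z} : Set Ω) := t • ⟨c, hvc⟩ with hy₁
  have hy₁c : (y₁ : Ω) ≠ c := fun h => ht.not_mem (mem_stabilizer_iff.2 (Subtype.ext h))
  obtain ⟨g, hg, hgy⟩ := htr y₁ y y₁.2 hvy hy₁c hyc
  obtain ⟨hgL, hgc, -⟩ := (hQmem g).1 hg
  obtain ⟨kL, hkL⟩ := hS.toPerm.rangeRestrict_surjective k
  rw [← hkL] at hk hkZ hko
  obtain ⟨hkc, hky⟩ := RankOneInvol.mem_twoPt.1 hk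
  have hkc' : (kL : G) • c = c := congrArg Subtype.val hkc
  have hky' : (kL : G) • (y₁ : Ω) = y₁ := congrArg Subtype.val hky
  set gL : memCent Z v := ⟨g, hgL⟩ with hgLdef
  obtain ⟨i, m, hm, hkm⟩ := Nat.exists_eq_pow_mul_and_not_dvd
    (orderOf_pos (gL * kL * gL⁻¹)).ne' p hp.ne_one
  set x₀ := (gL * kL * gL⁻¹) ^ m with hx₀
  have hgkg : ∀ z : Ω, (kL : G) • g⁻¹ • z = g⁻¹ • z →
      ((gL * kL * gL⁻¹ : memCent Z v) : G) • z = z := fun z hz => by
    show (g * kL * g⁻¹) • z = z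
    rw [mul_smul, mul_smul, hz, smul_inv_smul]
  have hxfix : ∀ z : Ω, (kL : G) • g⁻¹ • z = g⁻¹ • z → (x₀ : G) • z = z := fun z hz => by
    rw [hx₀, Subgroup.coe_pow]
    exact mem_stabilizer_iff.1 (pow_mem (mem_stabilizer_iff.2 (hgkg z hz)) m)
  have hxc : (x₀ : G) • c = c := hxfix c (by rw [inv_smul_eq_iff.2 hgc.symm, hkc'])
  have hxy : (x₀ : G) • y = y := hxfix y (by
    rw [show g⁻¹ • y = (y₁ : Ω) from inv_smul_eq_iff.2 hgy.symm, hky'])
  have hfx : f x₀ = f gL * f kL ^ m * (f gL)⁻¹ := by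
    rw [hx₀, map_pow, map_mul, map_mul, map_inv, conj_pow]
  refine ⟨x₀, p, hp, hp2, hpd, ?_, x₀.2, hxc, hxy, fun t' ht' => ?_, fun hfix => hm ?_⟩
  · obtain ⟨j, -, hj⟩ := (Nat.dvd_prime_pow hp).1 (orderOf_dvd_of_pow_eq_one
      (show x₀ ^ p ^ i = 1 by
        rw [hx₀, ← pow_mul, mul_comm m, ← hkm, pow_orderOf_eq_one]))
    exact ⟨j, (Subgroup.orderOf_coe x₀).trans hj⟩
  · rcases (mem_memGroup hCC).1 ht' with rfl | ht''
    · exact Commute.one_right _
    have htb : t' ∈ bMem Z c v := bMem_eq hCC hv hvc ▸ ht''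
    have htL := bMem_subset_memCent htb
    have hconj : (x₀ : G) * t' * (x₀ : G)⁻¹ ∈ bMem Z c v := by
      refine ⟨?_, ((commute_memCent x₀.2).mul_right htb.2).mul_right (commute_memCent x₀.2).inv_right⟩
      have := hC.base.conj_memAt (g := (x₀ : G)) ht''
      rwa [hxc] at this
    have hc : Commute (f x₀) (f ⟨t', htL⟩) := by
      have h1 : Commute (f kL) (f ⟨t', htL⟩) := hkZ _ (hZmem t' ht' htL)
      have h2 : Commute (f gL) (f ⟨t', htL⟩) :=
        (show Commute gL ⟨t', htL⟩ from Subtype.ext ((hB t' htb).2 g hg).eq.symm).map f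
      rw [hfx]
      exact (h2.mul_left (h1.pow_left m)).mul_left h2.inv_left
    refine mul_inv_eq_iff_eq_mul.1 (hC.eq_of_same hsc hbig hv hvc hconj htb fun z hz =>
      hS.same_of_map_eq (g := x₀ * ⟨t', htL⟩ * x₀⁻¹) (g' := ⟨t', htL⟩) ?_ z hz)
    show f (x₀ * ⟨t', htL⟩ * x₀⁻¹) = f ⟨t', htL⟩
    rw [map_mul, map_mul, map_inv, hc.eq, mul_inv_cancel_right]
  · have h1 : f x₀ = 1 := by
      rw [← map_one f]
      exact hS.map_eq_of_same fun z hz => by rw [hfix z hz]; simp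
    rw [hfx, conj_eq_one_iff] at h1
    exact hko ▸ orderOf_dvd_of_pow_eq_one h1

/-- **The data**: kernel, torus and `x` for a bad involution at two of its points, the torus
centralised by a further involution fixing both. -/
theorem exists_vdata (hCC : CentralCase Ω Z 3 e) {v b : G} (hv : IsBad Ω v) {c y : Ω}
    (hvc : v • c = c) (hvy : v • y = y) (hyc : y ≠ c) (hb : orderOf b = 2) (hvb : Commute v b)
    (hbc : b • c = c) (hby : b • y = y) :
    ∃ (E Q J : Subgroup G) (x : G) (p : ℕ),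
      VData Ω Z v c y E Q J x (2 ^ e) p ∧ ∀ j ∈ J, Commute b j := by
  have hC := hCC.crit
  have hsc := secComm hCC
  have hbig := one_lt_memAt hCC
  have hq4 := four_le hCC
  obtain ⟨Q, hQ2, hQmem, hQconj, htr, hfree, hB, hQB⟩ := hC.exists_sectKernel hsc hbig hv hvc
  obtain ⟨Q', hQ'mem, hF, hshape, hsq, hcm⟩ := hC.exists_qShape hsc hbig hv hvc
  obtain rfl : Q' = Q := Subgroup.ext fun g => (hQ'mem g).trans (hQmem g).symm
  have hbM := bMem_eq hCC hv hvc
  rw [hbM] at hshape hsq hcm hB hQB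
  have hcard : Nat.card Q' = (2 ^ e) ^ 3 := hF.symm.trans (ncard_fix_sdiff hCC hv hvc)
  have hna : ∃ x ∈ Q', ∃ y ∈ Q', x * y ≠ y * x := by
    rcases hshape with ⟨h1, -⟩ | ⟨h1, -⟩
    · rw [hcard, hCC.card_mem c] at h1
      have : 2 ^ e < (2 ^ e) ^ 3 := lt_self_pow₀ (by omega) (by norm_num)
      omega
    · exact h1
  obtain ⟨x, p, hp, hp2, hpd, hxo, hxL, hxc, hxy, hxE, hxmove⟩ :=
    exists_x hCC hv hvc hvy hyc hQmem hcard hna
  have : Fact p.Prime := ⟨hp⟩
  -- the swapper and its torus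
  have hS2 : IsPGroup 2 (Subgroup.zpowers v ⊔ Subgroup.zpowers b : Subgroup G) :=
    (isPGroup_zpowers hv.1).to_sup_of_normal_right' (isPGroup_zpowers hb)
      ((Subgroup.zpowers_le.2 (Subgroup.mem_centralizer_iff.2 fun g hg => by
        obtain ⟨n, rfl⟩ := Subgroup.mem_zpowers_iff.1 hg
        exact (hvb.zpow_right n).eq.symm)).trans (Subgroup.centralizer_le_normalizer _))
  have hvw : v ∈ stabilizer G c ⊓ stabilizer G y := ⟨hvc, hvy⟩
  have hbw : b ∈ stabilizer G c ⊓ stabilizer G y := ⟨hbc, hby⟩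
  have hle : Subgroup.zpowers v ⊔ Subgroup.zpowers b ≤ stabilizer G c ⊓ stabilizer G y :=
    sup_le (Subgroup.zpowers_le.2 hvw) (Subgroup.zpowers_le.2 hbw)
  obtain ⟨r, hr, hrc⟩ := hC.base.exists_swap_centralized hS2 hyc.symm fun g hg =>
    Or.inl ⟨(hle hg).1, (hle hg).2⟩
  have hvr : Commute v r := hrc v (Subgroup.mem_sup_left (Subgroup.mem_zpowers v))
  have hbr : Commute b r := hrc b (Subgroup.mem_sup_right (Subgroup.mem_zpowers b))
  obtain ⟨J, hJ, hJcyc, hJcard, hJL, hreg⟩ := hC.exists_torus hsc hbig hv hvc hvy hyc hr hvr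
  have hJmem : ∀ {d : G}, d ∈ J ↔ d ∈ torusSet Z v c y r := fun {d} => by
    rw [← SetLike.mem_coe, hJ]
  rw [hbM] at hJcard hreg
  obtain ⟨t₀, ht₀⟩ := hC.base.exists_memAt c
  have hJfix : ∀ u : G, Commute v u → Commute u r → u • c = c → u • y = y →
      (∀ t ∈ memAt Z c, Commute u t) → ∀ j ∈ J, Commute u j := by
    intro u hvu hur huc huy hut j hj
    obtain ⟨hjL, hjc, hjy, hjr⟩ := hJmem.1 hj
    have hmem : u * j * u⁻¹ ∈ J := by
      refine hJmem.2 ⟨conj_mem_memCent hC.base hvu hjL, ?_, ?_, ?_⟩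
      · rw [mul_smul, mul_smul, inv_smul_eq_iff.2 huc.symm, hjc, huc]
      · rw [mul_smul, mul_smul, inv_smul_eq_iff.2 huy.symm, hjy, huy]
      · have h1 : r * (u * j * u⁻¹) * r⁻¹ = u * (r * j * r⁻¹) * u⁻¹ := by
          have h2 : r * u = u * r := hur.eq.symm
          calc r * (u * j * u⁻¹) * r⁻¹ = (r * u) * j * (r * u)⁻¹ := by group
            _ = u * r * j * (u * r)⁻¹ := by rw [h2]
            _ = u * (r * j * r⁻¹) * u⁻¹ := by group
        rw [h1, hjr]
        group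
    refine mul_inv_eq_iff_eq_mul.1 ((hreg t₀ ht₀).injOn hmem hj ?_)
    have h1 : j * t₀ * j⁻¹ ∈ memAt Z c := (hreg t₀ ht₀).mapsTo hj
    show u * j * u⁻¹ * t₀ * (u * j * u⁻¹)⁻¹ = j * t₀ * j⁻¹
    calc u * j * u⁻¹ * t₀ * (u * j * u⁻¹)⁻¹ = u * (j * (u⁻¹ * (t₀ * u)) * j⁻¹) * u⁻¹ := by group
      _ = u * (j * t₀ * j⁻¹) * u⁻¹ := by rw [← (hut t₀ ht₀).eq, inv_mul_cancel_left]
      _ = j * t₀ * j⁻¹ := by rw [(hut _ h1).eq, mul_inv_cancel_right]
  -- `x` centralises a member at `y`, so the swappers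
  have hpq : ¬ p ∣ 2 ^ e := fun h => hp2
    ((Nat.prime_dvd_prime_iff_eq hp Nat.prime_two).1 (hp.dvd_of_dvd_pow h))
  have hpq1 : ¬ p ∣ 2 ^ e - 1 := fun h => hp2
    ((Nat.prime_dvd_prime_iff_eq hp Nat.prime_two).1 (by
      have h1 := Nat.dvd_sub hpd h
      rwa [show 2 ^ e + 1 - (2 ^ e - 1) = 2 by omega] at h1))
  obtain ⟨t₁, ht₁, hxt₁⟩ := exists_commute_of_pow hxo (X := memAt Z y)
    (fun s hs => by
      have := hC.base.conj_memAt (g := x) hs
      rwa [hxy] at this)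
    (by rwa [show (memAt Z y).ncard = 2 ^ e - 1 by have := hCC.card_mem y; omega])
  have hvx : Commute v x := commute_memCent hxL
  have hxr : Commute x r := by
    refine mul_inv_eq_iff_eq_mul.1 (hC.base.injOn_conj hyc.symm ht₁ ?_ hr ?_)
    · refine ⟨hC.base.conj_mem x r hr.1, ?_⟩
      rw [mul_smul, mul_smul, inv_smul_eq_iff.2 hxc.symm, hr.2, hxy]
    · have h1 : r * t₁ * r⁻¹ ∈ memAt Z c := (hC.base.bijOn_conj hyc.symm ht₁).mapsTo hr
      show x * r * x⁻¹ * t₁ * (x * r * x⁻¹)⁻¹ = r * t₁ * r⁻¹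
      calc x * r * x⁻¹ * t₁ * (x * r * x⁻¹)⁻¹ = x * (r * (x⁻¹ * (t₁ * x)) * r⁻¹) * x⁻¹ := by group
        _ = x * (r * t₁ * r⁻¹) * x⁻¹ := by rw [← hxt₁.eq, inv_mul_cancel_left]
        _ = r * t₁ * r⁻¹ := by
          rw [(hxE _ (Subgroup.subset_closure h1)).eq, mul_inv_cancel_right]
  have hxJ := hJfix x hvx hxr hxc hxy fun t ht => hxE t (Subgroup.subset_closure ht)
  have hbJ := hJfix b hvb hbr hbc hby (hCC.central b (isBad_of_two hb hbc hby hyc) c hbc)
  have hQx : ∀ g ∈ Q', x * g * x⁻¹ ∈ Q' := fun g hg => hQconj x hvx hxc g hg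
  have hEQ : memGroup Z c ≤ Q' := fun g hg => by
    rcases (mem_memGroup hCC).1 hg with rfl | hg
    · exact one_mem _
    · exact (hB g hg).1
  have hEmem : ∀ g ∈ Q', g * g = 1 → g ∈ memGroup Z c := fun g hg hgg => by
    rcases eq_or_ne g 1 with rfl | h1
    · exact one_mem _
    · exact Subgroup.subset_closure (hQB g hg (orderOf_eq_two_iff_mul.2 ⟨h1, hgg⟩))
  have hJnorm : ∀ j ∈ J, ∀ g ∈ Q', j * g * j⁻¹ ∈ Q' := fun j hj g hg =>
    hQconj j (commute_memCent (hJL hj)) (hJmem.1 hj).2.1 g hg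
  have hJE : ∀ j ∈ J, ∀ g ∈ memGroup Z c, j * g * j⁻¹ ∈ memGroup Z c := fun j hj g hg =>
    hC.base.conj_mem_memGroup (hJmem.1 hj).2.1 hg
  have hJfree : ∀ j ∈ J, ∀ g ∈ memGroup Z c, g ≠ 1 → j * g * j⁻¹ = g → j = 1 :=
    fun j hj g hg h1 hjg => (hreg g (((mem_memGroup hCC).1 hg).resolve_left h1)).injOn hj
      (one_mem J) (by simpa using hjg)
  have hsqE : ∀ g ∈ Q', g * g ∈ memGroup Z c := fun g hg =>
    (mem_memGroup hCC).2 (hsq g hg)
  have hlayer : Layer Q' (memGroup Z c) J (2 ^ e) :=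
    { isTwo := hQ2
      le := hEQ
      central := fun t ht g hg => by
        rcases (mem_memGroup hCC).1 ht with rfl | ht
        · exact Commute.one_left g
        · exact (hB t ht).2 g hg
      card_E := card_memGroup hCC c
      four_le := hq4
      sq := hsqE
      comm := fun g hg h hh => (mem_memGroup hCC).2 (hcm g hg h hh)
      mem_of_sq := hEmem
      sq_E := fun t ht => hC.base.mul_self_memGroup hC.faith hCC.comm ht
      norm := hJnorm
      norm_E := hJE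
      trans := fun t ht t' ht' h1 h1' =>
        (hreg t (((mem_memGroup hCC).1 ht).resolve_left h1)).surjOn
          (((mem_memGroup hCC).1 ht').resolve_left h1')
      abelian := fun i hi j hj => congrArg Subtype.val
        (hJcyc.isMulCommutative.is_comm.comm (⟨i, hi⟩ : J) ⟨j, hj⟩)
      free := hJfree }
  refine ⟨memGroup Z c, Q', J, x, p,
    { bad := hv
      fix_c := hvc
      fix_y := hvy
      ne := hyc
      mem_E := fun g => mem_memGroup hCC
      mem_Q := hQmem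
      card_Q := hcard
      layer := hlayer
      J_le := hJL
      J_fix := fun j hj => ⟨(hJmem.1 hj).2.1, (hJmem.1 hj).2.2.1⟩
      twist :=
        { prime := hp
          ne_two := hp2
          dvd := hpd
          pow := hxo
          norm := hQx
          fix := fun t ht => hxE t ht
          torus := hxJ
          cen := ?_ }
      x_le := hxL
      x_fix := ⟨hxc, hxy⟩ }, hbJ⟩
  -- only the members are centralised
  set F := Q' ⊓ Subgroup.centralizer {x}
  have hEF : memGroup Z c ≤ F := fun g hg =>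
    ⟨hEQ hg, Subgroup.mem_centralizer_singleton_iff.2 (hxE g hg).eq.symm⟩
  have hmod := card_centralizer_modEq hxo hQx
  have hFfree : ∀ j ∈ J, ∀ g ∈ F, g ∉ memGroup Z c → j * g * j⁻¹ = g → j = 1 := by
    intro j hj g hg hgE hjg
    refine hJfree j hj _ (hsqE g hg.1) (fun h => hgE (hEmem g hg.1 h)) ?_
    rw [show j * (g * g) * j⁻¹ = j * g * j⁻¹ * (j * g * j⁻¹) by group, hjg]
  have hFJ : ∀ j ∈ J, ∀ g ∈ F, j * g * j⁻¹ ∈ F := fun j hj g hg =>
    ⟨hJnorm j hj g hg.1, Subgroup.mem_centralizer_singleton_iff.2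
      (((hxJ j hj).mul_right (Subgroup.mem_centralizer_singleton_iff.1 hg.2).symm).mul_right
        (hxJ j hj).inv_right).eq.symm⟩
  intro g hg hxg
  rcases card_cases hCC.two_le (hQ2.to_le inf_le_left) hEF (card_memGroup hCC c)
    (by rw [hJcard]; have := hCC.card_mem c; omega)
    ((Subgroup.card_le_of_le inf_le_left).trans hcard.le) hFJ hJE hFfree with h | h | h
  · have heq : memGroup Z c = F := Subgroup.eq_of_le_of_card_ge hEF (by
      rw [h, card_memGroup hCC c])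
    rw [heq]
    exact ⟨hg, Subgroup.mem_centralizer_singleton_iff.2 hxg.eq.symm⟩
  · exfalso
    rw [hcard, h] at hmod
    have h1 := (Nat.modEq_iff_dvd' (Nat.pow_le_pow_right (by omega) (by norm_num))).1 hmod.symm
    rw [show (2 ^ e) ^ 3 - (2 ^ e) ^ 2 = (2 ^ e) ^ 2 * (2 ^ e - 1) by
      rw [Nat.mul_sub_one, ← pow_succ]] at h1
    rcases hp.dvd_mul.1 h1 with h2 | h2
    · exact hpq (hp.dvd_of_dvd_pow h2)
    · exact hpq1 h2
  · exfalso
    have heq : F = Q' := Subgroup.eq_of_le_of_card_ge inf_le_left (by rw [h, hcard])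
    refine hxmove fun z hz => ?_
    rcases eq_or_ne z c with rfl | hzc
    · exact hxc
    obtain ⟨g', hg', rfl⟩ := htr y z hvy hz hyc hzc
    have h1 : g' ∈ F := heq.symm ▸ hg'
    rw [smul_smul, ← Subgroup.mem_centralizer_singleton_iff.1 h1.2, mul_smul, hxy]

end CfsgLib.StrongCrit.CentralThree
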