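import Cfsg.Agent.Lib.StrongCrit.CentralThree.Defs
import Cfsg.Agent.Lib.StrongCrit.W1.Pure

/-!
Interface: the 2-subgroup at `c` of the section generated by the members centralising `x`.
-/

set_option autoImplicit false

namespace CfsgLib.StrongCrit.CentralThree

open MulAction

universe u

variable {G : Type u} [Group G]

/-- The 2-group `T` at `c` of the group generated by the members centralising `x`, for the data of a
bad involution `v`. -/
structure SData (Ω : Type u) [MulAction G Ω] (Z : Set G) (v : G) (c y : Ω) (E J : Subgroup G) (x : G)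
    (q : ℕ) (T : Subgroup G) : Prop where
  mem_T : ∀ g : G, g ∈ T ↔
    g ∈ W1.memIn Z (Subgroup.centralizer {x}) ∧ g • c = c ∧ ∃ j : ℕ, g ^ 2 ^ j = 1
  card_T : Nat.card T = q ^ 3
  layer : Layer T E J q
  commute_x : ∀ g ∈ T, Commute x g ∧ g • c = c
  norm : ∀ g : G, Commute x g → g • c = c → ∀ h ∈ T, g * h * g⁻¹ ∈ T
  cen : ∀ g ∈ T, v • g • y = g • y → g ∈ E

end CfsgLib.StrongCrit.CentralThree
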