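import Cfsg.Agent.Lib.StrongCrit.CentralThree.Defs

/-!
A 2-group with involutions and squares in a central subgroup, and an involution acting on it: the
commutators with the involution are inverted by it; for orders `q ^ 3` and `q ^ 2` this gives an
abelian subgroup, respectively commutativity, and for a large centraliser triviality modulo the
central subgroup.
-/

set_option autoImplicit false

namespace CfsgLib.StrongCrit.CentralThree

universe u

variable {G : Type u} [Group G] {P E J : Subgroup G} {q : ℕ} {a : G}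

/-- The commutator with `a`. -/
def flipMap (a g : G) : G := g⁻¹ * (a * g * a⁻¹)

theorem flipMap_mul_of_commute {g h : G} (hg : Commute (flipMap a g) h) :
    flipMap a (g * h) = flipMap a g * flipMap a h := by
  have h1 : flipMap a (g * h) = h⁻¹ * (flipMap a g * h) * flipMap a h := by
    simp only [flipMap]; group
  rw [h1, hg.eq, inv_mul_cancel_left]

/-- A set maps with fibres in cosets of `C`. -/
theorem ncard_le_image_mul [Finite G] {C : Subgroup G} {S : Set G} (f : G → G)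
    (hf : ∀ g ∈ S, ∀ h ∈ S, f g = f h → g * h⁻¹ ∈ C) :
    S.ncard ≤ (f '' S).ncard * Nat.card C := by
  classical
  rw [← Nat.card_coe_set_eq, ← Nat.card_coe_set_eq, ← Nat.card_prod]
  have hsec : ∀ w : f '' S, ∃ g, g ∈ S ∧ f g = (w : G) := fun w => w.2
  choose s hs hsf using hsec
  refine Nat.card_le_card_of_injective (fun g : S => ((⟨f g, g, g.2, rfl⟩ : f '' S),
    (⟨(g : G) * (s ⟨f g, g, g.2, rfl⟩)⁻¹,
      hf g g.2 _ (hs _) (hsf ⟨f g, g, g.2, rfl⟩).symm⟩ : C))) fun g h e => ?_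
  simp only [Prod.mk.injEq, Subtype.mk.injEq] at e
  obtain ⟨e1, e2⟩ := e
  rw [e1] at e2
  exact Subtype.ext (mul_right_cancel e2)

namespace Layer

variable (hL : Layer P E J q) (hF : Flip P E J a) [Finite G]
include hL hF

omit [Finite G] in
theorem flipMap_mem {g : G} (hg : g ∈ P) : flipMap a g ∈ P := mul_mem (inv_mem hg) (hF.norm g hg)

omit [Finite G] in
theorem flipMap_inverted {g : G} : a * flipMap a g * a⁻¹ = (flipMap a g)⁻¹ := by
  have hainv : a⁻¹ = a := inv_eq_of_mul_eq_one_right hF.invol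
  simp only [flipMap, mul_inv_rev, inv_inv, hainv]
  calc a * (g⁻¹ * (a * g * a)) * a = a * g⁻¹ * a * g * (a * a) := by group
    _ = a * g⁻¹ * a * g := by rw [hF.invol, mul_one]
    _ = a * (g⁻¹ * a) * g := by group

omit [Finite G] in
theorem flipMap_eq_inv_sq {g : G} (hg : a * g * a⁻¹ = g⁻¹) : flipMap a g = (g * g)⁻¹ := by
  rw [flipMap, hg]; group

omit [Finite G] in
theorem flipMap_conj {j g : G} (hj : j ∈ J) :
    flipMap a (j * g * j⁻¹) = j * flipMap a g * j⁻¹ := by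
  have h1 : a * (j * g * j⁻¹) * a⁻¹ = j * (a * g * a⁻¹) * j⁻¹ := by
    calc a * (j * g * j⁻¹) * a⁻¹ = (a * j) * g * (a * j)⁻¹ := by group
      _ = (j * a) * g * (j * a)⁻¹ := by rw [(hF.torus j hj).eq]
      _ = j * (a * g * a⁻¹) * j⁻¹ := by group
  rw [flipMap, h1, flipMap]; group

omit [Finite G] in
theorem flipMap_fibre {g h : G} (hg : g ∈ P) (hh : h ∈ P) (e : flipMap a g = flipMap a h) :
    g * h⁻¹ ∈ P ⊓ Subgroup.centralizer {a} := by
  refine ⟨(mul_mem hg (inv_mem hh) : g * h⁻¹ ∈ P), Subgroup.mem_centralizer_singleton_iff.2 ?_⟩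
  simp only [flipMap] at e
  have h1 : a * g * a⁻¹ = g * h⁻¹ * (a * h * a⁻¹) := by
    calc a * g * a⁻¹ = g * (g⁻¹ * (a * g * a⁻¹)) := by group
      _ = g * h⁻¹ * (a * h * a⁻¹) := by rw [e]; group
  calc g * h⁻¹ * a = g * h⁻¹ * (a * h * a⁻¹) * (a * h⁻¹) := by group
    _ = a * g * a⁻¹ * (a * h⁻¹) := by rw [h1]
    _ = a * (g * h⁻¹) := by group

omit hF in
/-- A `J`-invariant subgroup above `E` bigger than it has order at least `q ^ 2`. -/
theorem sq_le_card {F : Subgroup G} (hEF : E ≤ F) (hFP : F ≤ P)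
    (hJ : ∀ j ∈ J, ∀ g ∈ F, j * g * j⁻¹ ∈ F) {g : G} (hg : g ∈ F) (hgE : g ∉ E) :
    q ^ 2 ≤ Nat.card F := by
  classical
  have hs : g * g ∈ E := hL.sq g (hFP hg)
  have hs1 : g * g ≠ 1 := fun e => hgE (hL.mem_of_sq g (hFP hg) e)
  -- the conjugates of `g` lie in different cosets
  let T : Set G := (fun p : G × G => p.1 * g * p.1⁻¹ * p.2) '' ((J : Set G) ×ˢ (E : Set G))
  have hinj : Set.InjOn (fun p : G × G => p.1 * g * p.1⁻¹ * p.2) ((J : Set G) ×ˢ (E : Set G)) := by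
    rintro ⟨i, e⟩ ⟨hi, he⟩ ⟨j, e'⟩ ⟨hj, he'⟩ h
    simp only at h
    have hsq : ∀ (k : G) (b : G), k ∈ J → b ∈ E → (k * g * k⁻¹ * b) * (k * g * k⁻¹ * b) = k * (g * g) * k⁻¹ := by
      intro k b hk hb
      have hc := (hL.central b hb (k * g * k⁻¹) (hL.norm k hk g (hFP hg))).eq
      calc k * g * k⁻¹ * b * (k * g * k⁻¹ * b) = k * g * k⁻¹ * (b * (k * g * k⁻¹)) * b := by group
        _ = k * g * k⁻¹ * (k * g * k⁻¹ * b) * b := by rw [hc]
        _ = k * (g * g) * k⁻¹ * (b * b) := by group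
        _ = k * (g * g) * k⁻¹ := by rw [hL.sq_E b hb, mul_one]
    have h1 : i * (g * g) * i⁻¹ = j * (g * g) * j⁻¹ := by rw [← hsq i e hi he, ← hsq j e' hj he', h]
    have h2 : j⁻¹ * i = 1 := hL.free _ (mul_mem (inv_mem hj) hi) _ hs hs1 (by
      rw [show j⁻¹ * i * (g * g) * (j⁻¹ * i)⁻¹ = j⁻¹ * (i * (g * g) * i⁻¹) * j by group, h1]; group)
    obtain rfl : j = i := inv_mul_eq_one.1 h2
    exact Prod.ext rfl (mul_left_cancel h)
  have hdisj : Disjoint T (E : Set G) := by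
    rw [Set.disjoint_left]
    rintro _ ⟨⟨j, e⟩, ⟨hj, he⟩, rfl⟩ hmem
    apply hgE
    have h1 : j * g * j⁻¹ ∈ E := by simpa using mul_mem hmem (inv_mem he)
    have h2 := hL.norm_E j⁻¹ (inv_mem hj) _ h1
    rwa [show j⁻¹ * (j * g * j⁻¹) * j⁻¹⁻¹ = g by group] at h2
  have hsub : T ∪ (E : Set G) ⊆ (F : Set G) := by
    refine Set.union_subset ?_ hEF
    rintro _ ⟨⟨j, e⟩, ⟨hj, he⟩, rfl⟩
    exact mul_mem (hJ j hj g hg) (hEF he)
  have hJcard : q - 1 ≤ (J : Set G).ncard := by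
    have hEcard : (E : Set G).ncard = q := (Nat.card_coe_set_eq _).symm.trans hL.card_E
    have h1 : (E : Set G) \ {1} ⊆ (fun j => j * (g * g) * j⁻¹) '' (J : Set G) := by
      rintro e ⟨he, he1⟩
      obtain ⟨j, hj, hje⟩ := hL.trans _ hs _ he hs1 he1
      exact ⟨j, hj, hje⟩
    calc q - 1 = ((E : Set G) \ {1}).ncard := by
          rw [Set.ncard_sdiff (Set.singleton_subset_iff.2 E.one_mem), hEcard, Set.ncard_singleton]
      _ ≤ _ := (Set.ncard_le_ncard h1 (Set.toFinite _)).trans (Set.ncard_image_le (Set.toFinite _))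
  have h := Set.ncard_le_ncard hsub (Set.toFinite _)
  have hEc : (E : Set G).ncard = q := (Nat.card_coe_set_eq _).symm.trans hL.card_E
  have hFc : (F : Set G).ncard = Nat.card F := (Nat.card_coe_set_eq _).symm
  rw [Set.ncard_union_eq hdisj (Set.toFinite _) (Set.toFinite _), hinj.ncard_image, Set.ncard_prod,
    hEc, hFc] at h
  calc q ^ 2 = (q - 1) * q + q := by
        obtain ⟨r, hr⟩ := Nat.exists_eq_add_of_le (hL.four_le.trans' (by norm_num : 1 ≤ 4))
        subst hr; simp only [Nat.add_sub_cancel_left]; ring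
    _ ≤ (J : Set G).ncard * q + q := by gcongr
    _ ≤ Nat.card F := h

/-- The elements whose commutator with `a` lies in `E`. -/
theorem exists_flipKernel :
    ∃ N : Subgroup G, N ≤ P ∧ E ≤ N ∧ (∀ g, g ∈ N ↔ g ∈ P ∧ flipMap a g ∈ E) ∧
      (∀ g ∈ N, ∀ h ∈ N, flipMap a (g * h) = flipMap a g * flipMap a h) ∧
      ∀ j ∈ J, ∀ g ∈ N, j * g * j⁻¹ ∈ N := by
  have hone : ∀ e ∈ E, flipMap a e = 1 := fun e he => by
    rw [flipMap, (hF.fix e he).eq, mul_inv_cancel_right, inv_mul_cancel]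
  have hmul : ∀ g ∈ P, flipMap a g ∈ E → ∀ h ∈ P, flipMap a (g * h) = flipMap a g * flipMap a h :=
    fun g _ hge h hh => flipMap_mul_of_commute (hL.central _ hge h hh)
  let N : Subgroup G :=
    { carrier := {g | g ∈ P ∧ flipMap a g ∈ E}
      one_mem' := ⟨one_mem _, by rw [hone 1 (one_mem _)]; exact one_mem _⟩
      mul_mem' := fun {g h} hg hh => ⟨mul_mem hg.1 hh.1, by
        rw [hmul g hg.1 hg.2 h hh.1]; exact mul_mem hg.2 hh.2⟩
      inv_mem' := fun {g} hg => ⟨inv_mem hg.1, by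
        have h1 := hmul g hg.1 hg.2 g⁻¹ (inv_mem hg.1)
        rw [mul_inv_cancel, hone 1 (one_mem _)] at h1
        rw [eq_inv_of_mul_eq_one_right h1.symm]; exact inv_mem hg.2⟩ }
  refine ⟨N, fun g hg => hg.1, fun e he => ⟨hL.le he, by rw [hone e he]; exact one_mem _⟩,
    fun g => Iff.rfl, fun g hg h hh => hmul g hg.1 hg.2 h hh.1, fun j hj g hg => ⟨hL.norm j hj g hg.1, ?_⟩⟩
  rw [hL.flipMap_conj hF hj]
  exact hL.norm_E j hj _ hg.2

/-- For order `q ^ 3` and centraliser `E` the subgroup of elements with commutator in `E` is abelian of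
order `q ^ 2`, inverted, with all elements of `E` squares. -/
theorem exists_inverted (hC : ∀ g ∈ P, Commute a g → g ∈ E) (hcard : Nat.card P = q ^ 3) :
    ∃ N : Subgroup G, N ≤ P ∧ E ≤ N ∧ Nat.card N = q ^ 2 ∧
      (∀ g, g ∈ N ↔ g ∈ P ∧ g⁻¹ * (a * g * a⁻¹) ∈ E) ∧
      (∀ g ∈ N, a * g * a⁻¹ = g⁻¹) ∧ (∀ g ∈ N, ∀ h ∈ N, Commute g h) ∧
      (∀ e ∈ E, ∃ g ∈ N, g * g = e) ∧ ∀ j ∈ J, ∀ g ∈ N, j * g * j⁻¹ ∈ N := by
  classical
  obtain ⟨N, hNP, hEN, hNmem, hNmul, hNJ⟩ := hL.exists_flipKernel hF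
  have hCE : (P ⊓ Subgroup.centralizer {a} : Subgroup G) ≤ E := fun g hg =>
    hC g hg.1 (Subgroup.mem_centralizer_singleton_iff.1 hg.2).symm
  have hfib : ∀ g ∈ P, ∀ h ∈ P, flipMap a g = flipMap a h → g * h⁻¹ ∈ E := fun g hg h hh e =>
    hCE (hL.flipMap_fibre hF hg hh e)
  have himgN : flipMap a '' (P : Set G) ⊆ (N : Set G) := by
    rintro _ ⟨g, hg, rfl⟩
    refine (hNmem _).2 ⟨hL.flipMap_mem hF hg, ?_⟩
    rw [hL.flipMap_eq_inv_sq hF (hL.flipMap_inverted hF)]
    exact inv_mem (hL.sq _ (hL.flipMap_mem hF hg))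
  have hEcard : (E : Set G).ncard = q := (Nat.card_coe_set_eq _).symm.trans hL.card_E
  have hq : 0 < q := by have := hL.four_le; omega
  have hNc : (N : Set G).ncard = Nat.card N := (Nat.card_coe_set_eq _).symm
  have hPle : q ^ 2 ≤ (flipMap a '' (P : Set G)).ncard := by
    refine Nat.le_of_mul_le_mul_right (c := q) ?_ hq
    have := ncard_le_image_mul (C := E) (S := (P : Set G)) (flipMap a) hfib
    rw [show (P : Set G).ncard = Nat.card P from (Nat.card_coe_set_eq _).symm, hcard, hL.card_E] at this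
    rw [← pow_succ]; exact this
  have hNle : Nat.card N ≤ q ^ 2 := by
    have := ncard_le_image_mul (C := E) (S := (N : Set G)) (flipMap a)
      fun g hg h hh => hfib g (hNP hg) h (hNP hh)
    rw [hNc, hL.card_E] at this
    refine this.trans ?_
    rw [pow_two]
    refine Nat.mul_le_mul_right _ ?_
    rw [← hEcard]
    refine Set.ncard_le_ncard ?_ (Set.toFinite _)
    rintro _ ⟨g, hg, rfl⟩
    exact ((hNmem g).1 hg).2
  have hle := Set.ncard_le_ncard himgN (Set.toFinite _)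
  rw [hNc] at hle
  have hNcard : Nat.card N = q ^ 2 := le_antisymm hNle (hPle.trans hle)
  have heq : flipMap a '' (P : Set G) = (N : Set G) :=
    Set.eq_of_subset_of_ncard_le himgN (by rw [hNc, hNcard]; exact hPle) (Set.toFinite _)
  have hinv : ∀ g ∈ N, a * g * a⁻¹ = g⁻¹ := fun g hg => by
    obtain ⟨h, -, rfl⟩ : g ∈ flipMap a '' (P : Set G) := heq ▸ hg
    exact hL.flipMap_inverted hF
  have hsq : ∀ e ∈ E, ∃ g ∈ N, g * g = e := by
    have himg : (fun g => g * g) '' (N : Set G) = (E : Set G) := by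
      refine Set.eq_of_subset_of_ncard_le ?_ ?_ (Set.toFinite _)
      · rintro _ ⟨g, hg, rfl⟩; exact hL.sq g (hNP hg)
      · have h1 := ncard_le_image_mul (C := E) (S := (N : Set G)) (fun g => g * g)
          fun g hg h hh e => hfib g (hNP hg) h (hNP hh) (by
            have e : g * g = h * h := e
            rw [hL.flipMap_eq_inv_sq hF (hinv g hg), hL.flipMap_eq_inv_sq hF (hinv h hh), e])
        rw [hNc, hNcard, hL.card_E, pow_two] at h1
        rw [hEcard]
        exact Nat.le_of_mul_le_mul_right h1 hq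
    intro e he
    obtain ⟨g, hg, hge⟩ : e ∈ (fun g => g * g) '' (N : Set G) := himg ▸ he
    exact ⟨g, hg, hge⟩
  refine ⟨N, hNP, hEN, hNcard, hNmem, hinv, fun g hg h hh => ?_, hsq, hNJ⟩
  have h1 : g⁻¹ * h⁻¹ = (g * h)⁻¹ := by
    rw [← hinv (g * h) (mul_mem hg hh), ← hinv g hg, ← hinv h hh]; group
  rw [mul_inv_rev] at h1
  show g * h = h * g
  calc g * h = (h⁻¹ * g⁻¹)⁻¹ := by group
    _ = (g⁻¹ * h⁻¹)⁻¹ := by rw [h1]
    _ = h * g := by group

/-- For order `q ^ 2` and centraliser `E` the group is abelian. -/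
theorem comm_of_card_sq (hC : ∀ g ∈ P, Commute a g → g ∈ E) (hcard : Nat.card P = q ^ 2) :
    ∀ g ∈ P, ∀ h ∈ P, Commute g h := by
  classical
  obtain ⟨N, hNP, hEN, hNmem, hNmul, hNJ⟩ := hL.exists_flipKernel hF
  have hq := hL.four_le
  obtain ⟨g₀, hg₀, hg₀E⟩ : ∃ g ∈ P, g ∉ E := by
    by_contra hc
    push Not at hc
    have h1 := Subgroup.card_le_of_le (fun g hg => hc g hg : P ≤ E)
    rw [hcard, hL.card_E] at h1
    have : q * 4 ≤ q ^ 2 := by rw [pow_two]; exact Nat.mul_le_mul_left q hq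
    omega
  have hNall : P ≤ N := by
    obtain ⟨g, hg, hgE⟩ : ∃ g ∈ N, g ∉ E := by
      by_contra hc
      push Not at hc
      refine hg₀E (hc g₀ ((hNmem g₀).2 ⟨hg₀, ?_⟩))
      refine hc _ ((hNmem _).2 ⟨hL.flipMap_mem hF hg₀, ?_⟩)
      rw [hL.flipMap_eq_inv_sq hF (hL.flipMap_inverted hF)]
      exact inv_mem (hL.sq _ (hL.flipMap_mem hF hg₀))
    have h1 := hL.sq_le_card hEN hNP hNJ hg hgE
    rw [← hcard] at h1
    exact (Subgroup.eq_of_le_of_card_ge hNP h1).ge
  have hEP : ∀ g ∈ P, flipMap a g ∈ E := fun g hg => ((hNmem g).1 (hNall hg)).2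
  have hker : ∀ g ∈ P, flipMap a g = 1 → g ∈ E := fun g hg e => hC g hg (by
    show a * g = g * a
    rw [flipMap, inv_mul_eq_one] at e
    exact (mul_inv_eq_iff_eq_mul.1 e.symm))
  have hh₀ : flipMap a g₀ ≠ 1 := fun e => hg₀E (hker g₀ hg₀ e)
  have hs₀ : g₀ * g₀ ≠ 1 := fun e => hg₀E (hL.mem_of_sq g₀ hg₀ e)
  obtain ⟨k, hk, hks⟩ := hL.trans _ (hEP g₀ hg₀) _ (hL.sq g₀ hg₀) hh₀ hs₀
  have hsqhom : ∀ g ∈ P, g * g = k * flipMap a g * k⁻¹ := by
    intro g hg
    by_cases hgE : g ∈ E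
    · have h1 : flipMap a g = 1 := by
        rw [flipMap, (hF.fix g hgE).eq, mul_inv_cancel_right, inv_mul_cancel]
      rw [h1, hL.sq_E g hgE]; group
    obtain ⟨j, hj, hje⟩ := hL.trans _ (hEP g₀ hg₀) _ (hEP g hg) hh₀ fun e => hgE (hker g hg e)
    set g' := j * g₀ * j⁻¹ with hg'
    have hg'P : g' ∈ P := hL.norm j hj g₀ hg₀
    have hfl : flipMap a g' = flipMap a g := by rw [hg', hL.flipMap_conj hF hj, hje]
    have hmem : g * g'⁻¹ ∈ E := by
      obtain ⟨h1, h2⟩ := hL.flipMap_fibre hF hg hg'P hfl.symm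
      exact hC _ h1 (Subgroup.mem_centralizer_singleton_iff.1 h2).symm
    have hc : Commute (g * g'⁻¹) g' := hL.central _ hmem g' hg'P
    have h3 : g * g = g' * g' := by
      calc g * g = (g * g'⁻¹ * g') * (g * g'⁻¹ * g') := by group
        _ = (g * g'⁻¹ * g') * (g' * (g * g'⁻¹)) := by rw [hc.eq]
        _ = (g * g'⁻¹) * (g' * g') * (g * g'⁻¹) := by group
        _ = (g' * g') * (g * g'⁻¹) * (g * g'⁻¹) := by rw [(hc.mul_right hc).eq]
        _ = g' * g' := by rw [mul_assoc (g' * g'), hL.sq_E _ hmem, mul_one]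
    rw [h3, hg', show j * g₀ * j⁻¹ * (j * g₀ * j⁻¹) = j * (g₀ * g₀) * j⁻¹ by group, ← hks, ← hje]
    calc j * (k * flipMap a g₀ * k⁻¹) * j⁻¹ = (j * k) * flipMap a g₀ * (j * k)⁻¹ := by group
      _ = (k * j) * flipMap a g₀ * (k * j)⁻¹ := by rw [(hL.abelian j hj k hk).eq]
      _ = k * (j * flipMap a g₀ * j⁻¹) * k⁻¹ := by group
  intro g hg h hh
  have h1 : (g * h) * (g * h) = (g * g) * (h * h) := by
    rw [hsqhom _ (mul_mem hg hh), hsqhom g hg, hsqhom h hh,
      hNmul g (hNall hg) h (hNall hh)]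
    group
  show g * h = h * g
  calc g * h = g⁻¹ * ((g * g) * (h * h)) * h⁻¹ := by group
    _ = g⁻¹ * ((g * h) * (g * h)) * h⁻¹ := by rw [h1]
    _ = h * g := by group

/-- With a centraliser of order at least `q ^ 2` the involution is trivial modulo `E`. -/
theorem trivial_of_large (hcard : Nat.card P = q ^ 3)
    (hbig : q ^ 2 ≤ Nat.card (P ⊓ Subgroup.centralizer {a} : Subgroup G)) :
    ∀ g ∈ P, g⁻¹ * (a * g * a⁻¹) ∈ E := by
  classical
  intro g hg
  by_contra hgE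
  set w := flipMap a g with hw
  have hwE : w ∉ E := hgE
  set C := (P ⊓ Subgroup.centralizer {a} : Subgroup G) with hC
  set S := flipMap a '' (P : Set G) with hS
  have hq := hL.four_le
  have hScard : S.ncard ≤ q := by
    -- representatives times the centraliser
    have hsec : ∀ s : S, ∃ g, g ∈ P ∧ flipMap a g = (s : G) := fun s => s.2
    choose f hfP hff using hsec
    have hinj : Function.Injective fun p : C × S => (⟨(p.1 : G) * f p.2, mul_mem p.1.2.1 (hfP _)⟩ : P) := by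
      rintro ⟨c, s⟩ ⟨c', s'⟩ e
      have e' : (c : G) * f s = (c' : G) * f s' := congrArg Subtype.val e
      have hfl : ∀ (d : C) (y : G), flipMap a ((d : G) * y) = flipMap a y := fun d y => by
        have h1 : flipMap a (d : G) = 1 := by
          rw [flipMap, ← Subgroup.mem_centralizer_singleton_iff.1 d.2.2, mul_inv_cancel_right,
            inv_mul_cancel]
        rw [flipMap_mul_of_commute (h1.symm ▸ Commute.one_left y), h1, one_mul]
      obtain rfl : s = s' := Subtype.ext (by rw [← hff s, ← hff s', ← hfl c (f s), ← hfl c' (f s'), e'])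
      exact Prod.ext (Subtype.ext (mul_right_cancel e')) rfl
    have h1 := Nat.card_le_card_of_injective _ hinj
    rw [Nat.card_prod, Nat.card_coe_set_eq, hcard] at h1
    refine Nat.le_of_mul_le_mul_left (c := q ^ 2) ?_ (pow_pos (by omega : 0 < q) 2)
    calc q ^ 2 * S.ncard ≤ Nat.card C * S.ncard := Nat.mul_le_mul_right _ hbig
      _ ≤ q ^ 3 := h1
      _ = q ^ 2 * q := by ring
  have hwP : w ∈ P := hL.flipMap_mem hF hg
  -- the orbit of `w`, one and a non-trivial element of `E`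
  have hw2 : w * w ≠ 1 := fun e => hwE (hL.mem_of_sq w hwP e)
  have hvS : (w * w)⁻¹ ∈ S := ⟨w, hwP, hL.flipMap_eq_inv_sq hF (hL.flipMap_inverted hF)⟩
  set T := (fun j => j * w * j⁻¹) '' (J : Set G) with hT
  have hTS : T ⊆ S := by
    rintro _ ⟨j, hj, rfl⟩
    exact ⟨j * g * j⁻¹, hL.norm j hj g hg, hL.flipMap_conj hF hj⟩
  have hTcard : q - 1 ≤ T.ncard := by
    have hEcard : (E : Set G).ncard = q := (Nat.card_coe_set_eq _).symm.trans hL.card_E
    have h1 : (E : Set G) \ {1} ⊆ (fun y => y * y) '' T := by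
      rintro e ⟨he, he1⟩
      obtain ⟨j, hj, hje⟩ := hL.trans _ (hL.sq w hwP) _ he hw2 he1
      exact ⟨_, ⟨j, hj, rfl⟩, by simp only; rw [← hje]; group⟩
    calc q - 1 = ((E : Set G) \ {1}).ncard := by
          rw [Set.ncard_sdiff (Set.singleton_subset_iff.2 E.one_mem), hEcard, Set.ncard_singleton]
      _ ≤ _ := (Set.ncard_le_ncard h1 (Set.toFinite _)).trans (Set.ncard_image_le (Set.toFinite _))
  have hTE : ∀ e ∈ E, e ∉ T := by
    rintro e he ⟨j, hj, rfl⟩
    have h2 := hL.norm_E j⁻¹ (inv_mem hj) _ he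
    rw [show j⁻¹ * (j * w * j⁻¹) * j⁻¹⁻¹ = w by group] at h2
    exact hwE h2
  have h1S : (1 : G) ∈ S := ⟨1, one_mem _, by simp [flipMap]⟩
  have hvE : (w * w)⁻¹ ∈ E := inv_mem (hL.sq w hwP)
  have hsub : insert 1 (insert (w * w)⁻¹ T) ⊆ S := Set.insert_subset h1S (Set.insert_subset hvS hTS)
  have hle := Set.ncard_le_ncard hsub (Set.toFinite _)
  rw [Set.ncard_insert_of_notMem (s := insert (w * w)⁻¹ T) (a := (1 : G)) (by
      rintro (h | h)
      · exact hw2 (inv_eq_one.1 h.symm)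
      · exact hTE 1 (one_mem _) h) (Set.toFinite _),
    Set.ncard_insert_of_notMem (hTE _ hvE) (Set.toFinite _)] at hle
  omega

end Layer

end CfsgLib.StrongCrit.CentralThree
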