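import Cfsg.Agent.Lib.StrongCrit.CentralThree.SectDefs
import Cfsg.Agent.Lib.StrongCrit.CentralThree.Facts
import Cfsg.Agent.Lib.StrongCrit.CentralThree.Count
import Cfsg.Agent.Lib.StrongCrit.CentralThree.SectImage
import Cfsg.Agent.Lib.StrongCrit.CentralThree.Inverted
import Cfsg.Agent.Lib.RankOneRecog.Abelian
import Cfsg.Agent.Lib.SuzukiTwo.Count

/-!
The section generated by the members centralising `x`: its 2-group at `c` has order `q ^ 3` and
contains an abelian group of order `q ^ 2` inverted by the bad involution.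
-/

set_option autoImplicit false

namespace CfsgLib.StrongCrit.CentralThree

open CfsgLib.Involutions MulAction
open scoped commutatorElement

universe u

variable {G : Type u} [Group G] [Finite G] {Ω : Type u} [MulAction G Ω] [Finite Ω] {Z : Set G}
  {e p : ℕ} {v x : G} {c y : Ω} {E Q J : Subgroup G}

omit [Finite G] [Finite Ω] in
theorem mem_centralizer_iff' {g : G} : g ∈ Subgroup.centralizer {x} ↔ Commute x g :=
  Subgroup.mem_centralizer_singleton_iff.trans ⟨fun h => h.symm, fun h => h.eq.symm⟩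

/-- The members centralising `x` generate a group acting on the fixed points of `x` as in Bender's
theorem, with central kernel. -/
theorem sectSetting_x (hCC : CentralCase Ω Z 3 e) (hD : VData Ω Z v c y E Q J x (2 ^ e) p) :
    SectSetting (W1.memIn Z (Subgroup.centralizer {x})) (fixedBy Ω x) ∧
      (∀ k ∈ W1.memIn Z (Subgroup.centralizer {x}), (∀ z ∈ fixedBy Ω x, k • z = z) →
        ∀ g ∈ W1.memIn Z (Subgroup.centralizer {x}), Commute k g) ∧
      ∀ t ∈ W1.memIn Z (Subgroup.centralizer {x}), orderOf t = 2 → t ∈ Z := by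
  have hC := hCC.crit
  have hq4 := four_le hCC
  have : Fact p.Prime := ⟨hD.twist.prime⟩
  set M := Subgroup.centralizer ({x} : Set G) with hM
  set H := W1.memIn Z M with hH
  have hHx : ∀ g ∈ H, Commute x g := fun g hg => mem_centralizer_iff'.1 (W1.memIn_le Z M hg)
  have hgen : ∀ {t : G}, t ∈ Z → Commute x t → t ∈ H := fun htZ htx =>
    W1.mem_memIn htZ (mem_centralizer_iff'.2 htx)
  have hpd := hD.twist.dvd
  have hp2 := hD.twist.ne_two
  have hpq1 : ¬ p ∣ 2 ^ e - 1 := fun h => hp2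
    ((Nat.prime_dvd_prime_iff_eq hD.twist.prime Nat.prime_two).1 (by
      have h1 := Nat.dvd_sub hpd h
      rwa [show 2 ^ e + 1 - (2 ^ e - 1) = 2 by omega] at h1))
  have hcen : ∀ z ∈ fixedBy Ω x, ∃ t ∈ memAt Z z, Commute x t := fun z hz =>
    exists_commute_of_pow hD.twist.pow (X := memAt Z z)
      (fun s hs => by
        have := hC.base.conj_memAt (g := x) hs
        rwa [show x • z = z from hz] at this)
      (by rwa [show (memAt Z z).ncard = 2 ^ e - 1 by have := hCC.card_mem z; omega])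
  have hxfix : ∀ {t : G} {d : Ω}, t ∈ Z → Commute x t → t • d = d → x • d = d :=
    fun htZ htx htd => hC.base.fix_of_commute ⟨htZ, htd⟩ htx
  have hcΦ : c ∈ fixedBy Ω x := hD.x_fix.1
  have hyΦ : y ∈ fixedBy Ω x := hD.x_fix.2
  have hMne : M ≠ ⊤ := fun h => by
    have h1 : Q ≤ E := fun g hg => hD.twist.cen g hg (mem_centralizer_iff'.1 (show g ∈ M by rw [h]; trivial))
    have h2 := Subgroup.card_le_of_le h1
    rw [hD.card_Q, hD.layer.card_E] at h2
    have : 2 ^ e < (2 ^ e) ^ 3 := lt_self_pow₀ (by omega) (by norm_num)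
    omega
  obtain ⟨t₁, ht₁, t₂, ht₂, hne⟩ :=
    (Set.one_lt_ncard (Set.toFinite _)).1 (one_lt_memAt hCC c)
  have hEx : ∀ {t : G}, t ∈ memAt Z c → Commute x t := fun {t} ht =>
    hD.twist.fix t ((hD.mem_E t).2 (Or.inr ht))
  have hinv : ∀ t ∈ H, orderOf t = 2 → t ∈ Z := by
    refine hCC.pure M hMne ⟨c, ?_, y, ?_, hD.ne.symm⟩
      ⟨t₁, mem_centralizer_iff'.2 (hEx ht₁), t₂, mem_centralizer_iff'.2 (hEx ht₂), ht₁.1, ht₂.1, hne,
        hCC.comm c t₁ ht₁ t₂ ht₂⟩
    · exact ⟨t₁, mem_centralizer_iff'.2 (hEx ht₁), ht₁.1, ht₁.2⟩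
    · obtain ⟨t, ht, htx⟩ := hcen y hyΦ
      exact ⟨t, mem_centralizer_iff'.2 htx, ht.1, ht.2⟩
  have hstable : ∀ g ∈ H, ∀ z ∈ fixedBy Ω x, g • z ∈ fixedBy Ω x := fun g hg z hz => by
    show x • g • z = g • z
    rw [smul_smul, (hHx g hg).eq, mul_smul, show x • z = z from hz]
  refine ⟨⟨hstable, fun z hz w hw => ?_, fun z _ => ?_, fun t ht ht2 => ?_,
    fun t ht ht2 z _ w _ h h' => hC.base.unique t (hinv t ht ht2) z w h h', fun k hk hfix => ?_,
    t₁, hgen ht₁.1 (hEx ht₁), t₂, hgen ht₂.1 (hEx ht₂), hC.base.invol t₁ ht₁.1,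
    hC.base.invol t₂ ht₂.1, hne, hCC.comm c t₁ ht₁ t₂ ht₂⟩, fun k hk hfix g hg => ?_, hinv⟩
  · rcases eq_or_ne z w with rfl | hzw
    · exact ⟨1, one_mem _, one_smul G z⟩
    · obtain ⟨s, hs, hsx⟩ := hcen z hz
      obtain ⟨t, ht, htx⟩ := hcen w hw
      obtain ⟨g, hg, -, hgz⟩ := hC.base.exists_conj_of_ne hs ht hzw
      refine ⟨g, ?_, hgz⟩
      exact (Subgroup.closure_le H).2 (by
        rintro u (rfl | rfl)
        · exact hgen hs.1 hsx
        · exact hgen ht.1 htx) hg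
  · rcases eq_or_ne c z with rfl | h
    · exact ⟨y, hyΦ, hD.ne⟩
    · exact ⟨c, hcΦ, h⟩
  · obtain ⟨d, hd⟩ := hC.base.exists_fix t (hinv t ht ht2)
    exact ⟨d, hxfix (hinv t ht ht2) (hHx t ht) hd, hd⟩
  · rw [← Nat.not_even_iff_odd]
    intro he
    have h2 : orderOf (k ^ (orderOf k / 2)) = 2 := by
      rw [orderOf_pow_of_dvd (by have := orderOf_pos k; obtain ⟨m, hm⟩ := he; omega)
        (Nat.div_dvd_of_dvd he.two_dvd)]
      exact Nat.div_div_self he.two_dvd (orderOf_pos k).ne'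
    have hfix' : ∀ z ∈ fixedBy Ω x, k ^ (orderOf k / 2) • z = z := fun z hz =>
      mem_stabilizer_iff.1 (pow_mem (mem_stabilizer_iff.2 (hfix z hz)) _)
    exact hD.ne (hC.base.unique _ (hinv _ (pow_mem hk _) h2) y c (hfix' y hyΦ) (hfix' c hcΦ))
  · have hle : H ≤ Subgroup.centralizer {k} := by
      refine (Subgroup.closure_le _).2 fun t ht => ?_
      rw [SetLike.mem_coe, mem_centralizer_iff']
      obtain ⟨htZ, htM⟩ := ht
      obtain ⟨d, hd⟩ := hC.base.exists_fix t htZ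
      have hdΦ : d ∈ fixedBy Ω x := hxfix htZ (mem_centralizer_iff'.1 htM) hd
      have htH : t ∈ H := W1.mem_memIn htZ htM
      have hkt : k * t * k⁻¹ ∈ memAt Z d := by
        have := hC.base.conj_memAt (g := k) (⟨htZ, hd⟩ : t ∈ memAt Z d)
        rwa [hfix d hdΦ] at this
      have hu : k * t * k⁻¹ * t ∈ memGroup Z d :=
        mul_mem (Subgroup.subset_closure hkt) (Subgroup.subset_closure ⟨htZ, hd⟩)
      have hufix : ∀ z ∈ fixedBy Ω x, (k * t * k⁻¹ * t) • z = z := fun z hz => by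
        rw [mul_smul, mul_smul, mul_smul, inv_smul_eq_iff.2 (hfix _ (hstable t htH z hz)).symm,
          smul_smul t, mul_self_eq_one (hC.base.invol t htZ), one_smul, hfix z hz]
      obtain ⟨z, hzΦ, hzd⟩ : ∃ z ∈ fixedBy Ω x, z ≠ d := by
        rcases eq_or_ne c d with rfl | h
        · exact ⟨y, hyΦ, hD.ne⟩
        · exact ⟨c, hcΦ, h⟩
      have h1 := hC.base.eq_one_of_memGroup_fix hC.faith hCC.comm hu (hufix z hzΦ) hzd
      rw [mul_eq_one_iff_eq_inv, inv_eq_self_of_involution (hC.base.invol t htZ)] at h1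
      exact mul_inv_eq_iff_eq_mul.1 h1
    exact mem_centralizer_iff'.1 (hle hg)

/-- The points fixed by `x` and `v * b`, `b` in `E`, give `q ^ 2` fixed points of `x` besides `c`. -/
theorem sq_le_fixedBy (hCC : CentralCase Ω Z 3 e) (hD : VData Ω Z v c y E Q J x (2 ^ e) p) :
    (2 ^ e) ^ 2 ≤ (fixedBy Ω x \ {c}).ncard := by
  classical
  have hC := hCC.crit
  have : Fact p.Prime := ⟨hD.twist.prime⟩
  have hEmem : ∀ {g : G}, g ∈ E → g ∈ memGroup Z c := fun {g} hg =>
    (mem_memGroup hCC).2 ((hD.mem_E g).1 hg)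
  have hEc : ∀ {g : G}, g ∈ E → g • c = c := fun {g} hg => by
    rcases (hD.mem_E g).1 hg with rfl | h
    · exact one_smul G c
    · exact h.2
  have hvE : ∀ {g : G}, g ∈ E → Commute v g := fun hg =>
    commute_memGroup hCC hD.bad hD.fix_c (hEmem hg)
  have hbad : ∀ b ∈ E, IsBad Ω (v * b) := fun b hb => by
    rcases (hD.mem_E b).1 hb with rfl | h
    · rw [mul_one]; exact hD.bad
    · exact hC.base.isBad_mul hC.faith hD.bad h.1 (hvE hb)
  have hpq : ¬ p ∣ (2 ^ e) ^ 3 := fun h => hD.twist.ne_two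
    ((Nat.prime_dvd_prime_iff_eq hD.twist.prime Nat.prime_two).1
      (hD.twist.prime.dvd_of_dvd_pow (hD.twist.prime.dvd_of_dvd_pow h)))
  have hz : ∀ b : E, ∃ z : Ω, z ≠ c ∧ (v * b) • z = z ∧ x • z = z := fun b => by
    have hvbc : (v * b) • c = c := by rw [mul_smul, hEc b.2, hD.fix_c]
    have hX : ∀ w ∈ fixedBy Ω (v * b) \ {c}, x • w ∈ fixedBy Ω (v * b) \ {c} := by
      refine fun w hw => ⟨?_, fun h => hw.2 ?_⟩
      · show (v * b) • x • w = x • w
        rw [smul_smul, (((commute_memCent hD.x_le).symm.mul_right (hD.twist.fix b b.2))).symm.eq,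
          mul_smul, show (v * b) • w = w from hw.1]
      · exact MulAction.injective x ((h : x • w = c).trans hD.x_fix.1.symm)
    obtain ⟨z, ⟨hz, hzc⟩, hxz⟩ := exists_fixed_point_of_pow hD.twist.pow hX
      (by rw [ncard_fix_sdiff hCC (hbad b b.2) hvbc]; exact hpq)
    exact ⟨z, hzc, hz, hxz⟩
  choose z hzc hzv hzx using hz
  calc (2 ^ e) ^ 2 = (Set.univ : Set (E × E)).ncard := by
        rw [Set.ncard_univ, Nat.card_prod, hD.layer.card_E, sq]
    _ ≤ (fixedBy Ω x \ {c}).ncard := by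
      refine Set.ncard_le_ncard_of_injOn (fun i => (i.2 : G) • z i.1) (fun i _ => ⟨?_, fun h => ?_⟩)
        (fun i _ j _ hij => ?_) (Set.toFinite _)
      · show x • (i.2 : G) • z i.1 = (i.2 : G) • z i.1
        rw [smul_smul, (hD.twist.fix i.2 i.2.2).eq, mul_smul, hzx]
      · exact hzc i.1 (MulAction.injective (i.2 : G) ((h : (i.2 : G) • z i.1 = c).trans
          (hEc i.2.2).symm))
      · simp only at hij
        set w := (i.2 : G) • z i.1 with hw
        have hwc : w ≠ c := fun h => hzc i.1 (MulAction.injective (i.2 : G)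
          (h.trans (hEc i.2.2).symm))
        have hfix : ∀ k : E × E, (v * k.1) • (k.2 : G) • z k.1 = (k.2 : G) • z k.1 := fun k => by
          rw [smul_smul, ((hvE k.2.2).mul_left ((hC.base.commute_memGroup hC.faith hCC.comm
            (hEmem k.1.2) (hEmem k.2.2)))).eq, mul_smul, hzv]
        have h1 : (i.1 : G) • w = (j.1 : G) • w := by
          have hi := hfix i
          have hj := hfix j
          rw [← hw, mul_smul] at hi
          rw [← hij, mul_smul] at hj
          exact MulAction.injective v (hi.trans hj.symm)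
        have hb : i.1 = j.1 := by
          have h2 := hC.base.eq_one_of_memGroup_fix hC.faith hCC.comm
            (hEmem (mul_mem (inv_mem j.1.2) i.1.2)) (x := w)
            (by rw [mul_smul, h1, inv_smul_smul]) hwc
          exact Subtype.ext (inv_mul_eq_one.1 h2).symm
        have he : i.2 = j.2 := by
          have h2 := hC.base.eq_one_of_memGroup_fix hC.faith hCC.comm
            (hEmem (mul_mem (inv_mem j.2.2) i.2.2)) (x := z i.1)
            (by rw [mul_smul, show (i.2 : G) • z i.1 = (j.2 : G) • z i.1 from hij.trans (by rw [hb]),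
              inv_smul_smul]) (hzc i.1)
          exact Subtype.ext (inv_mul_eq_one.1 h2).symm
        exact Prod.ext hb he

/-- **The 2-group of the section of `x`.** -/
theorem exists_section (hCC : CentralCase Ω Z 3 e) (hD : VData Ω Z v c y E Q J x (2 ^ e) p) :
    ∃ T : Subgroup G, SData Ω Z v c y E J x (2 ^ e) T := by
  classical
  have hC := hCC.crit
  have hq4 := four_le hCC
  obtain ⟨hS, hker, hHinv⟩ := sectSetting_x hCC hD
  set H := W1.memIn Z (Subgroup.centralizer {x}) with hH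
  have hHx : ∀ g ∈ H, Commute x g := fun g hg =>
    mem_centralizer_iff'.1 (W1.memIn_le Z _ hg)
  have hcΦ : c ∈ fixedBy Ω x := hD.x_fix.1
  have hyΦ : y ∈ fixedBy Ω x := hD.x_fix.2
  obtain ⟨T, hT2, hTmem, htr, hfree, hcent⟩ := exists_twoGroup_central hS hker hcΦ
  have hTx : ∀ g ∈ T, Commute x g ∧ g • c = c := fun g hg =>
    ⟨hHx g ((hTmem g).1 hg).1, ((hTmem g).1 hg).2.1⟩
  have hEH : ∀ g ∈ E, g ∈ T := fun g hg => by
    refine (hTmem g).2 ?_
    rcases (hD.mem_E g).1 hg with rfl | ht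
    · exact ⟨one_mem _, one_smul G c, 0, one_pow _⟩
    · exact ⟨W1.mem_memIn ht.1 (mem_centralizer_iff'.2 (hD.twist.fix g hg)), ht.2, 1, by
        rw [pow_one, pow_two, mul_self_eq_one (hC.base.invol g ht.1)]⟩
  have hinv : ∀ g ∈ T, g * g = 1 → g ∈ E := fun g hg hgg => by
    rcases eq_or_ne g 1 with rfl | h1
    · exact one_mem _
    · have hgc := (hTx g hg).2
      exact (hD.mem_E g).2 (Or.inr ⟨hHinv g ((hTmem g).1 hg).1 (orderOf_eq_two_iff_mul.2 ⟨h1, hgg⟩), hgc⟩)
  have hnorm : ∀ g : G, Commute x g → g • c = c → ∀ h ∈ T, g * h * g⁻¹ ∈ T := by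
    intro g hgx hgc h hh
    obtain ⟨hhH, hhc, j, hj⟩ := (hTmem h).1 hh
    refine (hTmem _).2 ⟨?_, ?_, j, by rw [conj_pow, hj, mul_one, mul_inv_cancel]⟩
    · have hle : H.map (MulAut.conj g).toMonoidHom ≤ H := by
        rw [hH, W1.memIn, MonoidHom.map_closure, Subgroup.closure_le]
        rintro _ ⟨s, hs, rfl⟩
        exact W1.mem_memIn (hC.base.conj_mem g s hs.1) (mem_centralizer_iff'.2
          ((hgx.mul_right (mem_centralizer_iff'.1 hs.2)).mul_right hgx.inv_right))
      exact hle ⟨h, hhH, rfl⟩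
    · rw [mul_smul, mul_smul, inv_smul_eq_iff.2 hgc.symm, hhc, hgc]
  -- only members are centralised by `v`
  obtain ⟨Q', -, hQ'mem, -, hQtr, hQfree, -, -⟩ :=
    hC.exists_sectKernel (secComm hCC) (one_lt_memAt hCC) hD.bad hD.fix_c
  obtain rfl : Q' = Q := Subgroup.ext fun g => (hQ'mem g).trans (hD.mem_Q g).symm
  have hne : ∀ g ∈ T, g • y ≠ c := fun g hg h =>
    hD.ne (MulAction.injective g (h.trans (hTx g hg).2.symm))
  have hcen : ∀ g ∈ T, v • g • y = g • y → g ∈ E := by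
    intro g hg hvg
    obtain ⟨g', hg', hgy⟩ := hQtr y (g • y) hD.fix_y hvg hD.ne (hne g hg)
    have hxg : x • g' • y = g' • y := by
      rw [hgy, smul_smul, (hTx g hg).1.eq, mul_smul, hD.x_fix.2]
    have h1 : Commute x g' := by
      refine mul_inv_eq_iff_eq_mul.1 (inv_mul_eq_one.1 (hQfree _
        (mul_mem (inv_mem hg') (hD.twist.norm g' hg')) y hD.fix_y hD.ne ?_)).symm
      rw [mul_smul, mul_smul, mul_smul, inv_smul_eq_iff.2 hD.x_fix.2.symm, hxg, inv_smul_smul]
    have hgE := hD.twist.cen g' hg' h1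
    have h2 := hfree _ (mul_mem (inv_mem hg) (hEH g' hgE)) y hyΦ hD.ne
      (by rw [mul_smul, hgy, inv_smul_smul])
    rwa [inv_mul_eq_one.1 h2]
  have hcardΦ : (fixedBy Ω x \ {c}).ncard = Nat.card T := by
    rw [← Set.ncard_univ]
    symm
    refine Set.ncard_congr (fun g _ => (g : G) • y)
      (fun g _ => ⟨hS.stable _ ((hTmem g).1 g.2).1 y hyΦ, hne g g.2⟩) (fun a b _ _ hab => ?_)
      fun z hz => ?_
    · exact (Subtype.ext (inv_mul_eq_one.1 (hfree _ (mul_mem (inv_mem b.2) a.2) y hyΦ hD.ne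
        (by rw [mul_smul, hab, inv_smul_smul])))).symm
    · obtain ⟨g, hg, rfl⟩ := htr y hyΦ z hz.1 hD.ne hz.2
      exact ⟨⟨g, hg⟩, trivial, rfl⟩
  have hbig : (2 ^ e) ^ 2 ≤ Nat.card T := hcardΦ ▸ sq_le_fixedBy hCC hD
  have hJT : ∀ j ∈ J, ∀ g ∈ T, j * g * j⁻¹ ∈ T := fun j hj g hg =>
    hnorm j (hD.twist.torus j hj) (hD.J_fix j hj).1 g hg
  have hEiff : ∀ g : G, g ∈ E ↔ g ∈ T ∧ g * g = 1 := fun g =>
    ⟨fun hg => ⟨hEH g hg, hD.layer.sq_E g hg⟩, fun h => hinv g h.1 h.2⟩
  -- `T` is not abelian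
  have hnab : ¬ ∀ g ∈ T, ∀ h ∈ T, Commute g h := by
    intro hab
    obtain ⟨hTL, t, ht, hcT, hcZ, hfs, -, -⟩ := exists_setup hS hcΦ hTmem htr hfree hEiff
    obtain ⟨s₁, s₂, hs₁, hs₂, hne', hcm⟩ := hS.hasFour
    have h1 := RankOneRecog.card_eq_of_comm ht ⟨s₁, s₂, ne_one_of_involution hs₁,
      ne_one_of_involution hs₂, hne', mul_self_eq_one hs₁, mul_self_eq_one hs₂, hcm.eq⟩ (by
        rintro _ ⟨a, ha, rfl⟩ _ ⟨b, hb, rfl⟩
        rw [← map_mul, ← map_mul, show a * b = b * a from Subtype.ext (hab _ ha _ hb).eq])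
    rw [hcT, hcZ, hD.layer.card_E] at h1
    have : 2 ^ e < (2 ^ e) ^ 2 := lt_self_pow₀ (by omega) (by norm_num)
    omega
  -- Suzuki 2-group
  letI : CommGroup J :=
    { (inferInstance : Group J) with
      mul_comm := fun a b => Subtype.ext (hD.layer.abelian a a.2 b b.2).eq }
  letI : MulDistribMulAction J T :=
    { smul := fun k g => ⟨(k : G) * g * (k : G)⁻¹, hJT k k.2 g g.2⟩
      one_smul := fun g => Subtype.ext (by show (1 : G) * g * (1 : G)⁻¹ = g; simp)
      mul_smul := fun k l g => Subtype.ext (by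
        show (k : G) * l * g * ((k : G) * l)⁻¹ = (k : G) * ((l : G) * g * (l : G)⁻¹) * (k : G)⁻¹
        group)
      smul_mul := fun k g h => Subtype.ext (by
        show (k : G) * ((g : G) * h) * (k : G)⁻¹ =
          (k : G) * g * (k : G)⁻¹ * ((k : G) * h * (k : G)⁻¹)
        group)
      smul_one := fun k => Subtype.ext (by show (k : G) * 1 * (k : G)⁻¹ = 1; simp) }
  obtain ⟨a₀, ha₀, b₀, hb₀, hne₀⟩ := (Set.one_lt_ncard (Set.toFinite _)).1 (one_lt_memAt hCC c)
  have haE := (hD.mem_E a₀).2 (Or.inr ha₀)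
  have hbE := (hD.mem_E b₀).2 (Or.inr hb₀)
  have hset : SuzukiTwo.Setting T J := by
    refine ⟨hT2, ⟨⟨a₀, hEH a₀ haE⟩, ⟨b₀, hEH b₀ hbE⟩, fun h => hne₀ (congrArg Subtype.val h),
      fun h => ne_one_of_involution (hC.base.invol a₀ ha₀.1) (congrArg Subtype.val h),
      Subtype.ext (hD.layer.sq_E a₀ haE),
      fun h => ne_one_of_involution (hC.base.invol b₀ hb₀.1) (congrArg Subtype.val h),
      Subtype.ext (hD.layer.sq_E b₀ hbE)⟩, fun g h hg hgg hh hhh => ?_⟩
    have hg' : (g : G) ≠ 1 := fun h => hg (Subtype.ext h)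
    have hh' : (h : G) ≠ 1 := fun h => hh (Subtype.ext h)
    obtain ⟨k, hk, hkh⟩ := hD.layer.trans g (hinv g g.2 (congrArg Subtype.val hgg)) h
      (hinv h h.2 (congrArg Subtype.val hhh)) hg' hh'
    refine ⟨⟨k, hk⟩, Subtype.ext hkh, fun l hl => Subtype.ext (inv_mul_eq_one.1
      (hD.layer.free _ (J.mul_mem (J.inv_mem l.2) hk) g (hinv g g.2 (congrArg Subtype.val hgg)) hg'
        ?_))⟩
    have h1 : (l : G) * g * (l : G)⁻¹ = h := congrArg Subtype.val hl
    calc (l : G)⁻¹ * k * g * ((l : G)⁻¹ * k)⁻¹ = (l : G)⁻¹ * (k * g * k⁻¹) * l := by group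
      _ = (l : G)⁻¹ * ((l : G) * g * (l : G)⁻¹) * l := by rw [hkh, h1]
      _ = g := by group
  have hna : ∃ g h : T, g * h ≠ h * g := by
    push Not at hnab
    obtain ⟨g, hg, h, hh, hne'⟩ := hnab
    exact ⟨⟨g, hg⟩, ⟨h, hh⟩, fun h' => hne' (congrArg Subtype.val h')⟩
  obtain ⟨hsq, hcm⟩ := hset.sq_mem hna
  have hinvols : ∀ g : T, g ∈ SuzukiTwo.invols T → (g : G) ∈ E := fun g hg =>
    hinv g g.2 (congrArg Subtype.val (hset.mem_invols.1 hg))
  have hB : Nat.card (SuzukiTwo.invols T) = 2 ^ e := by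
    have h1 : SuzukiTwo.invols T = E.subgroupOf T := Subgroup.ext fun g =>
      ⟨hinvols g, fun hg => hset.mem_invols.2 (Subtype.ext (hD.layer.sq_E g hg))⟩
    rw [h1, Nat.card_congr (Subgroup.subgroupOfEquivOfLe hEH).toEquiv, hD.layer.card_E]
  have hlayer : Layer T E J (2 ^ e) :=
    { isTwo := hT2
      le := hEH
      central := fun t ht g hg => by
        rcases (hD.mem_E t).1 ht with rfl | ht'
        · exact Commute.one_left g
        · exact hcent t (hEH t ht) g hg (hC.base.invol t ht'.1)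
      card_E := hD.layer.card_E
      four_le := hq4
      sq := fun g hg => hinvols _ (hsq ⟨g, hg⟩)
      comm := fun g hg h hh => hinvols _ (hcm ⟨g, hg⟩ ⟨h, hh⟩)
      mem_of_sq := hinv
      sq_E := hD.layer.sq_E
      norm := hJT
      norm_E := hD.layer.norm_E
      trans := hD.layer.trans
      abelian := hD.layer.abelian
      free := hD.layer.free }
  have hxv : Commute x v := (commute_memCent hD.x_le).symm
  have hflip : Flip T E J v :=
    { invol := mul_self_eq_one hD.bad.1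
      norm := fun g hg => hnorm v hxv hD.fix_c g hg
      fix := fun t ht => commute_memGroup hCC hD.bad hD.fix_c
        ((mem_memGroup hCC).2 ((hD.mem_E t).1 ht))
      torus := fun j hj => commute_memCent (hD.J_le hj) }
  have hcard : Nat.card T = (2 ^ e) ^ 3 := by
    have h1 := hset.card_eq hna
    rw [hB] at h1
    refine h1.resolve_left fun h2 => hnab (hlayer.comm_of_card_sq hflip ?_ h2)
    intro g hg hvg
    refine hcen g hg ?_
    rw [smul_smul, hvg.eq, mul_smul, hD.fix_y]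
  exact ⟨T, ⟨hTmem, hcard, hlayer, hTx, hnorm, hcen⟩⟩

/-- **The translations**: an abelian group of order `q ^ 2` centralised by `x` and inverted by
`v`. -/
theorem exists_translations (hCC : CentralCase Ω Z 3 e) (hD : VData Ω Z v c y E Q J x (2 ^ e) p) :
    ∃ N : Subgroup G, E ≤ N ∧
      (∀ g ∈ N, g • c = c ∧ Commute x g ∧ v * g * v⁻¹ = g⁻¹ ∧ g * g ∈ E) ∧
      (∀ g ∈ N, ∀ h ∈ N, Commute g h) ∧ (∀ e' ∈ E, ∃ g ∈ N, g * g = e') ∧
      (∀ j ∈ J, ∀ g ∈ N, j * g * j⁻¹ ∈ N) ∧ Nat.card N = (2 ^ e) ^ 2 := by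
  obtain ⟨T, hT⟩ := exists_section hCC hD
  have hflip : Flip T E J v :=
    { invol := mul_self_eq_one hD.bad.1
      norm := fun g hg => hT.norm v (commute_memCent hD.x_le).symm hD.fix_c g hg
      fix := fun t ht => commute_memGroup hCC hD.bad hD.fix_c
        ((mem_memGroup hCC).2 ((hD.mem_E t).1 ht))
      torus := fun j hj => commute_memCent (hD.J_le hj) }
  obtain ⟨N, hNT, hEN, hN, -, hinv, hcomm, hsq, hJ⟩ := hT.layer.exists_inverted hflip
    (fun g hg hvg => hT.cen g hg (by rw [smul_smul, hvg.eq, mul_smul, hD.fix_y])) hT.card_T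
  exact ⟨N, hEN, fun g hg => ⟨(hT.commute_x g (hNT hg)).2, (hT.commute_x g (hNT hg)).1, hinv g hg,
    hT.layer.sq g (hNT hg)⟩, hcomm, hsq, hJ, hN⟩

end CfsgLib.StrongCrit.CentralThree
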