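import Cfsg.Agent.Lib.StrongCrit.Endgame

/-!
Interface for the unitary case of the central case of Aschbacher's criterion: a 2-group with the
involutions in a central subgroup `E`, an involution and a torus acting on it, and the data of a bad
involution.
-/

set_option autoImplicit false

namespace CfsgLib.StrongCrit.CentralThree

open MulAction

universe u

variable {G : Type u} [Group G]

/-- A 2-group `P` with a central subgroup `E` of order `q` holding its involutions and squares and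
an abelian group `J` normalising it, transitive on the non-trivial elements of `E`. -/
structure Layer (P E J : Subgroup G) (q : ℕ) : Prop where
  isTwo : IsPGroup 2 P
  le : E ≤ P
  central : ∀ e ∈ E, ∀ g ∈ P, Commute e g
  card_E : Nat.card E = q
  four_le : 4 ≤ q
  sq : ∀ g ∈ P, g * g ∈ E
  comm : ∀ g ∈ P, ∀ h ∈ P, g * h * g⁻¹ * h⁻¹ ∈ E
  mem_of_sq : ∀ g ∈ P, g * g = 1 → g ∈ E
  sq_E : ∀ e ∈ E, e * e = 1
  norm : ∀ j ∈ J, ∀ g ∈ P, j * g * j⁻¹ ∈ P
  norm_E : ∀ j ∈ J, ∀ e ∈ E, j * e * j⁻¹ ∈ E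
  trans : ∀ e ∈ E, ∀ e' ∈ E, e ≠ 1 → e' ≠ 1 → ∃ j ∈ J, j * e * j⁻¹ = e'
  abelian : ∀ i ∈ J, ∀ j ∈ J, Commute i j
  free : ∀ j ∈ J, ∀ e ∈ E, e ≠ 1 → j * e * j⁻¹ = e → j = 1

/-- An involution acting on a layer, trivially on `E`. -/
structure Flip (P E J : Subgroup G) (a : G) : Prop where
  invol : a * a = 1
  norm : ∀ g ∈ P, a * g * a⁻¹ ∈ P
  fix : ∀ e ∈ E, Commute a e
  torus : ∀ j ∈ J, Commute a j

/-- An element of `p`-power order acting on a layer, trivially on `E`, centralising only `E`. -/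
structure Twist (P E J : Subgroup G) (x : G) (q p : ℕ) : Prop where
  prime : p.Prime
  ne_two : p ≠ 2
  dvd : p ∣ q + 1
  pow : ∃ i : ℕ, orderOf x = p ^ i
  norm : ∀ g ∈ P, x * g * x⁻¹ ∈ P
  fix : ∀ e ∈ E, Commute x e
  torus : ∀ j ∈ J, Commute x j
  cen : ∀ g ∈ P, Commute x g → g ∈ E

variable {Ω : Type u} [MulAction G Ω]

/-- The data of a bad involution `v` at `c` and another of its points `y` in the unitary central case:
the members `E` at `c`, the kernel `Q` of the section, the torus `J` and the element `x`. -/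
structure VData (Ω : Type u) [MulAction G Ω] (Z : Set G) (v : G) (c y : Ω) (E Q J : Subgroup G) (x : G)
    (q p : ℕ) : Prop where
  bad : IsBad Ω v
  fix_c : v • c = c
  fix_y : v • y = y
  ne : y ≠ c
  mem_E : ∀ g : G, g ∈ E ↔ g = 1 ∨ g ∈ memAt Z c
  mem_Q : ∀ g : G, g ∈ Q ↔ g ∈ memCent Z v ∧ g • c = c ∧ ∃ j : ℕ, g ^ 2 ^ j = 1
  card_Q : Nat.card Q = q ^ 3
  layer : Layer Q E J q
  J_le : J ≤ memCent Z v
  J_fix : ∀ j ∈ J, j • c = c ∧ j • y = y
  twist : Twist Q E J x q p
  x_le : x ∈ memCent Z v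
  x_fix : x • c = c ∧ x • y = y

end CfsgLib.StrongCrit.CentralThree
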