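import Mathlib
import Cfsg.Agent.Lib.StrongCrit.CentralThree.Defs
import Cfsg.Agent.Lib.StrongCrit.CentralThree.Count

/-!
An element of odd prime power order, of order dividing no power of `q - 1`, acting on a layer
fixed point freely modulo `E`: together with the torus it acts irreducibly modulo `E`, and the
layer is covered by its commutators.
-/

set_option autoImplicit false

namespace CfsgLib.StrongCrit.CentralThree

open MulAction

universe u

variable {G : Type u} [Group G] {P E J : Subgroup G} {x : G} {q p : ℕ}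

namespace Layer

section

variable [Finite G] (hL : Layer P E J q)
include hL

theorem exists_two_pow : ∃ e : ℕ, 2 ≤ e ∧ q = 2 ^ e := by
  have : Fact (Nat.Prime 2) := ⟨Nat.prime_two⟩
  obtain ⟨e, he⟩ := (hL.isTwo.to_le hL.le).exists_card_eq
  rw [hL.card_E] at he
  refine ⟨e, ?_, he⟩
  by_contra hlt
  have := hL.four_le
  interval_cases e <;> omega

theorem card_torus : Nat.card J + 1 = q := by
  classical
  obtain ⟨e, he, hq⟩ := hL.exists_two_pow
  obtain ⟨e₀, he₀, hne⟩ : ∃ e₀ ∈ E, e₀ ≠ 1 := by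
    by_contra hc
    push Not at hc
    have h1 : E = ⊥ := (Subgroup.eq_bot_iff_forall E).2 hc
    have h2 := hL.card_E
    rw [h1, Subgroup.card_bot] at h2
    have := hL.four_le
    omega
  have h1 : Nat.card J = Nat.card ((E : Set G) \ {1} : Set G) := by
    refine Nat.card_congr (Equiv.ofBijective
      (fun j : J => (⟨(j : G) * e₀ * (j : G)⁻¹, hL.norm_E j j.2 e₀ he₀,
        fun h => hne (conj_eq_one_iff.1 h)⟩ : ((E : Set G) \ {1} : Set G))) ⟨fun i j hij => ?_, ?_⟩)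
    · have h : (i : G) * e₀ * (i : G)⁻¹ = (j : G) * e₀ * (j : G)⁻¹ := congrArg Subtype.val hij
      have h' : ((j : G)⁻¹ * i) * e₀ * ((j : G)⁻¹ * i)⁻¹ = e₀ := by
        calc ((j : G)⁻¹ * i) * e₀ * ((j : G)⁻¹ * i)⁻¹ = (j : G)⁻¹ * ((i : G) * e₀ * (i : G)⁻¹) * j := by
              group
          _ = e₀ := by rw [h]; group
      have h'' := hL.free _ (J.mul_mem (J.inv_mem j.2) i.2) e₀ he₀ hne h'
      exact Subtype.ext (inv_mul_eq_one.1 h'').symm
    · rintro ⟨g, hg, hg1⟩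
      obtain ⟨j, hj, hje⟩ := hL.trans e₀ he₀ g hg hne hg1
      exact ⟨⟨j, hj⟩, Subtype.ext hje⟩
  rw [h1, Nat.card_coe_set_eq, Set.ncard_sdiff_singleton_add_one (one_mem E) (Set.toFinite _),
    ← Nat.card_coe_set_eq]
  exact hL.card_E

omit [Finite G] in
theorem torus_free {j g : G} (hj : j ∈ J) (hg : g ∈ P) (hgE : g ∉ E) (h : j * g * j⁻¹ = g) :
    j = 1 := by
  refine hL.free j hj (g * g) (hL.sq g hg) (fun h1 => hgE (hL.mem_of_sq g hg h1)) ?_
  calc j * (g * g) * j⁻¹ = (j * g * j⁻¹) * (j * g * j⁻¹) := by group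
    _ = g * g := by rw [h]

omit [Finite G] in
/-- An element of odd order fixing `E` and the layer modulo `E` centralises the layer. -/
theorem commute_of_mod {d : G} (hd : Odd (orderOf d)) (hdE : ∀ e ∈ E, Commute d e)
    (hmod : ∀ g ∈ P, g⁻¹ * (d * g * d⁻¹) ∈ E) : ∀ g ∈ P, Commute d g := by
  intro g hg
  set e := g⁻¹ * (d * g * d⁻¹) with he
  have hdg : d * g * d⁻¹ = g * e := by rw [he]; group
  have hpow : ∀ n : ℕ, d ^ n * g * (d ^ n)⁻¹ = g * e ^ n := by
    intro n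
    induction n with
    | zero => simp
    | succ n ih =>
      have h1 : d * e ^ n * d⁻¹ = e ^ n := by
        rw [((hdE e (hmod g hg)).pow_right n).eq, mul_inv_cancel_right]
      calc d ^ (n + 1) * g * (d ^ (n + 1))⁻¹ = d * (d ^ n * g * (d ^ n)⁻¹) * d⁻¹ := by
            rw [pow_succ']; group
        _ = (d * g * d⁻¹) * (d * e ^ n * d⁻¹) := by rw [ih]; group
        _ = g * e ^ (n + 1) := by rw [h1, hdg, pow_succ', mul_assoc]
  have h2 := hpow (orderOf d)
  rw [pow_orderOf_eq_one, one_mul, inv_one, mul_one] at h2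
  have h3 : e ^ orderOf d = e := by
    obtain ⟨k, hk⟩ := hd
    rw [hk, pow_succ, pow_mul, pow_two, hL.sq_E e (hmod g hg), one_pow, one_mul]
  rw [h3] at h2
  have h4 : e = 1 := mul_left_cancel (a := g) (by rw [mul_one]; exact h2.symm)
  have h5 : d * g * d⁻¹ = g := by rw [hdg, h4, mul_one]
  exact mul_inv_eq_iff_eq_mul.1 h5

end

section

variable [Finite G] (hL : Layer P E J q) (hT : Twist P E J x q p)
include hL hT

theorem not_dvd_q : ¬ p ∣ q := by
  obtain ⟨e, -, hq⟩ := hL.exists_two_pow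
  intro h
  rw [hq] at h
  exact hT.ne_two ((Nat.prime_dvd_prime_iff_eq hT.prime Nat.prime_two).1 (hT.prime.dvd_of_dvd_pow h))

/-- A subgroup between `E` and the layer invariant under the torus and `x` is one of the two. -/
theorem eq_of_invariant (hcard : Nat.card P = q ^ 3) {F : Subgroup G} (hEF : E ≤ F) (hFP : F ≤ P)
    (hJ : ∀ j ∈ J, ∀ g ∈ F, j * g * j⁻¹ ∈ F) (hx : ∀ g ∈ F, x * g * x⁻¹ ∈ F) (hne : F ≠ E) :
    F = P := by
  classical
  have : Fact p.Prime := ⟨hT.prime⟩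
  obtain ⟨e, he, hq⟩ := hL.exists_two_pow
  have hJ' : Nat.card J = 2 ^ e - 1 := by have := hL.card_torus; omega
  have hle : Nat.card F ≤ (2 ^ e) ^ 3 := by rw [← hq, ← hcard]; exact Subgroup.card_le_of_le hFP
  have hmod := card_centralizer_modEq hT.pow hx
  have hcen : (F ⊓ Subgroup.centralizer {x} : Subgroup G) = E := by
    refine le_antisymm (fun g hg => ?_) fun g hg => ⟨hEF hg, Subgroup.mem_centralizer_singleton_iff.2 ?_⟩
    · exact hT.cen g (hFP hg.1) (Subgroup.mem_centralizer_singleton_iff.1 hg.2).symm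
    · exact (hT.fix g hg).symm.eq
  rw [hcen, hL.card_E] at hmod
  rcases card_cases he (hL.isTwo.to_le hFP) hEF (hq ▸ hL.card_E) hJ' hle hJ hL.norm_E
      (fun j hj g hg hgE h => hL.torus_free hj (hFP hg) hgE h) with h | h | h
  · exact absurd (Subgroup.eq_of_le_of_card_ge hEF (by rw [h, hL.card_E, hq])).symm hne
  · exfalso
    rw [h, ← hq] at hmod
    have hpq1 : p ∣ q - 1 := by
      have h1 : p ∣ q ^ 2 - q :=
        (Nat.modEq_iff_dvd' (Nat.le_self_pow (by norm_num) q)).1 hmod.symm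
      rw [pow_two, ← Nat.mul_sub_one] at h1
      exact ((hT.prime.coprime_iff_not_dvd).2 (hL.not_dvd_q hT)).dvd_of_dvd_mul_left h1
    have h2 : p ∣ (q + 1) - (q - 1) := Nat.dvd_sub hT.dvd hpq1
    have h3 : (q + 1) - (q - 1) = 2 := by have := hL.four_le; omega
    rw [h3] at h2
    exact hT.ne_two ((Nat.prime_dvd_prime_iff_eq hT.prime Nat.prime_two).1 h2)
  · exact Subgroup.eq_of_le_of_card_ge hFP (by rw [h, hcard, hq])

/-- A subgroup containing `E` and all commutators with `x` contains the layer. -/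
theorem le_of_commutators {F : Subgroup G} (hEF : E ≤ F)
    (hx : ∀ g ∈ P, g * x * g⁻¹ * x⁻¹ ∈ F) : P ≤ F := by
  classical
  have hmemP : ∀ g ∈ P, g * x * g⁻¹ * x⁻¹ ∈ P := fun g hg => by
    rw [show g * x * g⁻¹ * x⁻¹ = g * (x * g⁻¹ * x⁻¹) by group]
    exact P.mul_mem hg (hT.norm _ (P.inv_mem hg))
  obtain ⟨i, hi⟩ := hT.pow
  have hodd : Odd (orderOf x) := by rw [hi]; exact (hT.prime.odd_of_ne_two hT.ne_two).pow
  let E' : Subgroup P := E.subgroupOf P
  let φ : P → P := fun g => ⟨(g : G) * x * (g : G)⁻¹ * x⁻¹, hmemP g g.2⟩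
  have hwd : ∀ g h : P, g⁻¹ * h ∈ E' → φ g = φ h := by
    intro g h hgh
    have he : (g : G)⁻¹ * h ∈ E := hgh
    set e := (g : G)⁻¹ * h with hedef
    have h1 : (h : G) = g * e := by rw [hedef]; group
    have h2 : e * x * e⁻¹ = x := by rw [← (hT.fix e he).eq, mul_inv_cancel_right]
    apply Subtype.ext
    show (g : G) * x * (g : G)⁻¹ * x⁻¹ = (h : G) * x * (h : G)⁻¹ * x⁻¹
    rw [h1, show (g : G) * e * x * ((g : G) * e)⁻¹ = g * (e * x * e⁻¹) * (g : G)⁻¹ by group, h2]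
  let ψ : P ⧸ E' → P ⧸ E' := Quotient.lift (fun g => (QuotientGroup.mk (φ g) : P ⧸ E'))
    fun g h hgh => by rw [hwd g h (QuotientGroup.leftRel_apply.1 hgh)]
  have hinj : Function.Injective ψ := by
    intro a b hab
    obtain ⟨g, rfl⟩ := QuotientGroup.mk_surjective a
    obtain ⟨h, rfl⟩ := QuotientGroup.mk_surjective b
    have h0 : (φ g)⁻¹ * φ h ∈ E' := QuotientGroup.eq.1 hab
    have h1 : ((φ g : G))⁻¹ * (φ h : G) ∈ E := h0
    set e := ((φ g : G))⁻¹ * (φ h : G) with hedef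
    apply QuotientGroup.eq.2
    show (g : G)⁻¹ * h ∈ E
    set y := (g : G)⁻¹ * h with hy
    have h2 : (h : G) * x * (h : G)⁻¹ * x⁻¹ = ((g : G) * x * (g : G)⁻¹ * x⁻¹) * e := by
      show (φ h : G) = (φ g : G) * e
      rw [hedef]; group
    have hxe : x⁻¹ * e * x = e := by rw [mul_assoc, ← (hT.fix e h1).eq, inv_mul_cancel_left]
    have hge : (g : G)⁻¹ * e * g = e := by
      rw [mul_assoc, (hL.central e h1 g g.2).eq, inv_mul_cancel_left]
    have h3 : y * x * y⁻¹ = x * e := by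
      have h4 : (h : G) * x * (h : G)⁻¹ = (g : G) * x * (g : G)⁻¹ * e := by
        calc (h : G) * x * (h : G)⁻¹ = ((h : G) * x * (h : G)⁻¹ * x⁻¹) * x := by group
          _ = (g : G) * x * (g : G)⁻¹ * (x⁻¹ * e * x) := by rw [h2]; group
          _ = (g : G) * x * (g : G)⁻¹ * e := by rw [hxe]
      calc y * x * y⁻¹ = (g : G)⁻¹ * ((h : G) * x * (h : G)⁻¹) * g := by rw [hy]; group
        _ = x * ((g : G)⁻¹ * e * g) := by rw [h4]; group
        _ = x * e := by rw [hge]
    have h5 : e = 1 := by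
      have h6 := congrArg (fun z => z ^ orderOf x) h3
      simp only [conj_pow, pow_orderOf_eq_one, mul_one, mul_inv_cancel,
        (hT.fix e h1).mul_pow, one_mul] at h6
      obtain ⟨k, hk⟩ := hodd
      rw [hk, pow_succ, pow_mul, pow_two, hL.sq_E e h1, one_pow, one_mul] at h6
      exact h6.symm
    rw [h5, mul_one] at h3
    exact hT.cen y (P.mul_mem (P.inv_mem g.2) h.2) (mul_inv_eq_iff_eq_mul.1 h3).symm
  intro k hk
  obtain ⟨a, ha⟩ := Finite.surjective_of_injective hinj (QuotientGroup.mk (⟨k, hk⟩ : P))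
  obtain ⟨g, rfl⟩ := QuotientGroup.mk_surjective a
  have h0 : (φ g)⁻¹ * (⟨k, hk⟩ : P) ∈ E' := QuotientGroup.eq.1 ha
  have h1 : ((φ g : G))⁻¹ * k ∈ E := h0
  have h2 : k = ((g : G) * x * (g : G)⁻¹ * x⁻¹) * (((φ g : G))⁻¹ * k) := by
    show k = (φ g : G) * (((φ g : G))⁻¹ * k)
    group
  rw [h2]
  exact F.mul_mem (hx g g.2) (hEF h1)

/-- A homomorphism of the layer into `E` killing `E` and invariant under `x` is trivial. -/
theorem hom_eq_one (φ : G → G) (_hval : ∀ g ∈ P, φ g ∈ E)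
    (hmul : ∀ g ∈ P, ∀ h ∈ P, φ (g * h) = φ g * φ h) (hE : ∀ e ∈ E, φ e = 1)
    (hinv : ∀ g ∈ P, φ (x * g * x⁻¹) = φ g) : ∀ g ∈ P, φ g = 1 := by
  have h1 : φ 1 = 1 := hE 1 (one_mem E)
  let F : Subgroup G :=
    { carrier := {g | g ∈ P ∧ φ g = 1}
      one_mem' := ⟨P.one_mem, h1⟩
      mul_mem' := fun {a b} ha hb => ⟨P.mul_mem ha.1 hb.1, by
        rw [hmul a ha.1 b hb.1, ha.2, hb.2, one_mul]⟩
      inv_mem' := fun {a} ha => ⟨P.inv_mem ha.1, by
        have h2 := hmul a ha.1 a⁻¹ (P.inv_mem ha.1)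
        rw [mul_inv_cancel, h1, ha.2, one_mul] at h2
        exact h2.symm⟩ }
  have hle : P ≤ F := hL.le_of_commutators hT (F := F) (fun e he => ⟨hL.le he, hE e he⟩) fun g hg => by
    have h3 : x * g⁻¹ * x⁻¹ ∈ P := hT.norm _ (P.inv_mem hg)
    have h4 : g * x * g⁻¹ * x⁻¹ = g * (x * g⁻¹ * x⁻¹) := by group
    refine ⟨by rw [h4]; exact P.mul_mem hg h3, ?_⟩
    rw [h4, hmul g hg _ h3, hinv _ (P.inv_mem hg), ← hmul g hg _ (P.inv_mem hg), mul_inv_cancel, h1]
  exact fun g hg => (hle hg).2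

end

end Layer

end CfsgLib.StrongCrit.CentralThree
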