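import Cfsg.Agent.Lib.StrongCrit.CentralThree.Inverted
import Cfsg.Agent.Lib.StrongCrit.CentralThree.SectDefs
import Cfsg.Agent.Lib.StrongCrit.CentralThree.Section
import Cfsg.Agent.Lib.StrongCrit.CentralThree.Twist
import Cfsg.Agent.Lib.StrongCrit.CentralThree.Data

/-!
The end of the unitary central case: two commuting bad involutions fixing `q ^ 2 + 1` common
points centralise each other's sections, so both invert the abelian subgroup of order `q ^ 2` of the
2-group of the section of `x`, which their product then centralises.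
-/

set_option autoImplicit false

namespace CfsgLib.StrongCrit.CentralThree

open CfsgLib.Involutions MulAction

universe u

variable {G : Type u} [Group G] [Finite G]

/-- In a layer of order `q ^ 3` on which two commuting involutions act, both centralising only `E`,
their product centralises more than `E`. -/
theorem exists_commute_mul {T E J : Subgroup G} {a b : G} {q : ℕ} (hL : Layer T E J q)
    (hA : Flip T E J a) (hB : Flip T E J b) (hab : Commute a b) (hcard : Nat.card T = q ^ 3)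
    (hCa : ∀ g ∈ T, Commute a g → g ∈ E) (hCb : ∀ g ∈ T, Commute b g → g ∈ E) :
    ∃ g ∈ T, g ∉ E ∧ Commute (a * b) g := by
  obtain ⟨Na, hNaT, hENa, hcardNa, hmemA, hinvA, -, -, hJA⟩ := hL.exists_inverted hA hCa hcard
  obtain ⟨Nb, hNbT, hENb, hcardNb, hmemB, hinvB, -, -, hJB⟩ := hL.exists_inverted hB hCb hcard
  have hq := hL.four_le
  have hbi : b⁻¹ = b := inv_eq_of_mul_eq_one_right hB.invol
  obtain ⟨g, hg, hgE⟩ : ∃ g ∈ Na, g ∉ E := by
    by_contra hcon
    push Not at hcon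
    have h1 : Nat.card Na ≤ Nat.card E := Subgroup.card_le_of_le hcon
    rw [hcardNa, hL.card_E] at h1
    nlinarith
  set k := b * g * b⁻¹ with hk
  have hkT : k ∈ T := hB.norm g (hNaT hg)
  have hak : a * k * a⁻¹ = k⁻¹ := by
    calc a * k * a⁻¹ = a * b * g * (a * b)⁻¹ := by rw [hk]; group
      _ = b * a * g * (b * a)⁻¹ := by rw [hab.eq]
      _ = b * (a * g * a⁻¹) * b⁻¹ := by group
      _ = k⁻¹ := by rw [hinvA g hg, hk]; group
  have hkNa : k ∈ Na := (hmemA k).2 ⟨hkT, by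
    rw [hak, ← mul_inv_rev]; exact inv_mem (hL.sq k hkT)⟩
  -- the element `g⁻¹ (b g b⁻¹)` is inverted by both
  have hfA : g⁻¹ * k ∈ Na := mul_mem (inv_mem hg) hkNa
  have hfb : b * (g⁻¹ * k) * b⁻¹ = (g⁻¹ * k)⁻¹ := by
    calc b * (g⁻¹ * k) * b⁻¹ = b * g⁻¹ * b * g * (b * b)⁻¹ := by rw [hk]; group
      _ = b * g⁻¹ * b⁻¹ * g := by rw [hB.invol, hbi]; group
      _ = (g⁻¹ * k)⁻¹ := by rw [hk]; group
  have hfB : g⁻¹ * k ∈ Nb := (hmemB _).2 ⟨hNaT hfA, by
    rw [hfb, ← mul_inv_rev]; exact inv_mem (hL.sq _ (hNaT hfA))⟩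
  obtain ⟨f, hf, hfE⟩ : ∃ f ∈ Na ⊓ Nb, f ∉ E := by
    by_cases hgk : g⁻¹ * k ∈ E
    · exact ⟨g, ⟨hg, (hmemB g).2 ⟨hNaT hg, hgk⟩⟩, hgE⟩
    · exact ⟨_, ⟨hfA, hfB⟩, hgk⟩
  refine ⟨f, hNaT hf.1, hfE, mul_inv_eq_iff_eq_mul.1 ?_⟩
  calc a * b * f * (a * b)⁻¹ = a * (b * f * b⁻¹) * a⁻¹ := by group
    _ = (a * f * a⁻¹)⁻¹ := by rw [hinvB f hf.2]; group
    _ = f := by rw [hinvA f hf.1, inv_inv]

variable {Ω : Type u} [MulAction G Ω] [Finite Ω] {Z : Set G} {e : ℕ}

/-- A second bad involution fixing many fixed points of the first centralises the kernel of its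
section. -/
theorem commute_kernel_of_common (hCC : CentralCase Ω Z 3 e) {a b : G} {c z : Ω}
    {E Q J : Subgroup G} {x : G} {p : ℕ} (hD : VData Ω Z a c z E Q J x (2 ^ e) p)
    (hb : IsBad Ω b) (hab : Commute a b) (hbc : b • c = c) (hbz : b • z = z)
    (hbJ : ∀ j ∈ J, Commute b j)
    (hbig : (2 ^ e) ^ 2 ≤ ((fixedBy Ω a ∩ fixedBy Ω b) \ {c}).ncard) :
    ∀ g ∈ Q, Commute b g := by
  have hC := hCC.crit
  have hsc := hC.secComm hCC.pure
  have hbig' := hC.one_lt_memAt hCC.pure hCC.exists_bad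
  obtain ⟨Q', -, hQ', -, htr, hfree, -, -⟩ := hC.exists_sectKernel hsc hbig' hD.bad hD.fix_c
  obtain rfl : Q' = Q := SetLike.ext fun g => (hQ' g).trans (hD.mem_Q g).symm
  have hbb := mul_self_eq_one hb.1
  have hbi := inv_eq_self_of_involution hb.1
  have hbQ : ∀ g ∈ Q', b * g * b⁻¹ ∈ Q' := by
    intro g hg
    obtain ⟨hgL, hgc, j, hj⟩ := (hQ' g).1 hg
    refine (hQ' _).2 ⟨conj_mem_memCent hC.base hab hgL, ?_, j, by
      rw [conj_pow, hj, mul_one, mul_inv_cancel]⟩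
    rw [mul_smul, mul_smul, hbi, hbc, hgc, hbc]
  have hF : Flip Q' E J b := by
    refine ⟨hbb, hbQ, fun g hg => ?_, hbJ⟩
    rcases (hD.mem_E g).1 hg with rfl | hg'
    · exact Commute.one_right b
    · exact hCC.central b hb c hbc g hg'
  set F := Q' ⊓ Subgroup.centralizer {b} with hFdef
  have hmemF : ∀ {g : G}, g ∈ F ↔ g ∈ Q' ∧ Commute b g := fun {g} => by
    rw [hFdef, Subgroup.mem_inf, Subgroup.mem_centralizer_singleton_iff]
    exact and_congr_right fun _ => eq_comm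
  have hcardF : (2 ^ e) ^ 2 ≤ Nat.card F := by
    refine hbig.trans ?_
    rw [← Nat.card_coe_set_eq]
    have hex : ∀ w : ↥((fixedBy Ω a ∩ fixedBy Ω b) \ {c}), ∃ g : F, (g : G) • z = w := by
      rintro ⟨w, ⟨hwa, hwb⟩, hwc⟩
      obtain ⟨g, hg, hgz⟩ := htr z w hD.fix_y hwa hD.ne hwc
      refine ⟨⟨g, hmemF.2 ⟨hg, ?_⟩⟩, hgz⟩
      have h1 : g⁻¹ * (b * g * b⁻¹) = 1 := by
        refine hfree _ (mul_mem (inv_mem hg) (hbQ g hg)) z hD.fix_y hD.ne ?_
        rw [hbi, mul_smul, mul_smul, mul_smul, hbz, hgz, show b • w = w from hwb, ← hgz,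
          inv_smul_smul]
      exact mul_inv_eq_iff_eq_mul.1 (inv_mul_eq_one.1 h1).symm
    choose f hf using hex
    exact Nat.card_le_card_of_injective f fun w w' e => Subtype.ext (by rw [← hf w, e, hf w'])
  have hmod := hD.layer.trivial_of_large hF hD.card_Q hcardF
  -- the commutator of `x` and `b`
  set d := x * b * x⁻¹ * b⁻¹ with hd
  have hxL := hD.x_le
  have hdL : d ∈ memCent Z a := by
    rw [hd, show x * b * x⁻¹ * b⁻¹ = x * (b * x⁻¹ * b⁻¹) by group]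
    exact mul_mem hxL (conj_mem_memCent hC.base hab (inv_mem hxL))
  have hfix : ∀ w : Ω, x • w = w → b • w = w → d • w = w := by
    intro w h1 h2
    rw [hd, mul_smul, mul_smul, mul_smul, inv_smul_eq_iff.2 h2.symm, inv_smul_eq_iff.2 h1.symm,
      h2, h1]
  have hdodd : Odd (orderOf d) := hC.oddSect hD.bad d (memCent_eq Z a ▸ hdL) c
    (mem_fixSet_zpowers.2 hD.fix_c) z (mem_fixSet_zpowers.2 hD.fix_y) hD.ne.symm
    (hfix c hD.x_fix.1 hbc) (hfix z hD.x_fix.2 hbz)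
  have hdE : ∀ g ∈ E, Commute d g := fun g hg =>
    (((hD.twist.fix g hg).mul_left (hF.fix g hg)).mul_left (hD.twist.fix g hg).inv_left).mul_left
      (hF.fix g hg).inv_left
  have hxQ : ∀ g ∈ Q', x⁻¹ * g * x ∈ Q' := by
    intro g hg
    obtain ⟨hgL, hgc, j, hj⟩ := (hQ' g).1 hg
    refine (hQ' _).2 ⟨mul_mem (mul_mem (inv_mem hxL) hgL) hxL, ?_, j, ?_⟩
    · rw [mul_smul, mul_smul, hD.x_fix.1, hgc, inv_smul_eq_iff, hD.x_fix.1]
    · rw [show x⁻¹ * g * x = x⁻¹ * g * x⁻¹⁻¹ by group, conj_pow, hj]; group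
  have hdmod : ∀ g ∈ Q', g⁻¹ * (d * g * d⁻¹) ∈ E := by
    intro g hg
    set e₁ := g⁻¹ * (b * g * b⁻¹) with he₁
    set h := x⁻¹ * g * x with hh
    set e₂ := h⁻¹ * (b * h * b⁻¹) with he₂
    have he₁E := hmod g hg
    have he₂E := hmod h (hxQ g hg)
    have hx1 : x * e₁ * x⁻¹ = e₁ := by rw [(hD.twist.fix e₁ he₁E).eq, mul_inv_cancel_right]
    have hx2 : x * e₂ * x⁻¹ = e₂ := by rw [(hD.twist.fix e₂ he₂E).eq, mul_inv_cancel_right]
    have hb1 : b * e₁ * b⁻¹ = e₁ := by rw [(hF.fix e₁ he₁E).eq, mul_inv_cancel_right]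
    have hx1' : x⁻¹ * e₁ * x = e₁ := by
      rw [mul_assoc, ← (hD.twist.fix e₁ he₁E).eq, inv_mul_cancel_left]
    have key : d * g * d⁻¹ = g * (e₂ * e₁) := by
      calc d * g * d⁻¹ = x * b * (x⁻¹ * (b⁻¹ * g * b) * x) * b⁻¹ * x⁻¹ := by rw [hd]; group
        _ = x * b * (x⁻¹ * (g * e₁) * x) * b⁻¹ * x⁻¹ := by rw [he₁, hbi]; group
        _ = x * ((b * h * b⁻¹) * (b * (x⁻¹ * e₁ * x) * b⁻¹)) * x⁻¹ := by rw [hh]; group
        _ = x * h * x⁻¹ * ((x * e₂ * x⁻¹) * (x * e₁ * x⁻¹)) := by rw [hx1', hb1, he₂]; group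
        _ = g * (e₂ * e₁) := by rw [hx1, hx2, hh]; group
    rw [key, inv_mul_cancel_left]
    exact mul_mem he₂E he₁E
  have hdQ := hD.layer.commute_of_mod hdodd hdE hdmod
  have hFx : ∀ g ∈ F, x * g * x⁻¹ ∈ F := by
    intro g hg
    obtain ⟨hgQ, hgb⟩ := hmemF.1 hg
    have hxg := hD.twist.norm g hgQ
    refine hmemF.2 ⟨hxg, mul_inv_eq_iff_eq_mul.1 ?_⟩
    calc b * (x * g * x⁻¹) * b⁻¹ = d⁻¹ * (x * (b * g * b⁻¹) * x⁻¹) * d := by rw [hd]; group
      _ = d⁻¹ * (x * g * x⁻¹ * d) := by rw [hgb.eq, mul_inv_cancel_right, mul_assoc]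
      _ = x * g * x⁻¹ := by rw [← (hdQ _ hxg).eq, inv_mul_cancel_left]
  have hFJ : ∀ j ∈ J, ∀ g ∈ F, j * g * j⁻¹ ∈ F := fun j hj g hg => hmemF.2
    ⟨hD.layer.norm j hj g (hmemF.1 hg).1,
      ((hbJ j hj).mul_right (hmemF.1 hg).2).mul_right (hbJ j hj).inv_right⟩
  have hEF : E ≤ F := fun g hg => hmemF.2 ⟨hD.layer.le hg, hF.fix g hg⟩
  have hne : F ≠ E := by
    intro h
    rw [h, hD.layer.card_E] at hcardF
    have := hD.layer.four_le
    nlinarith
  have hall := hD.layer.eq_of_invariant hD.twist hD.card_Q hEF inf_le_left hFJ hFx hne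
  exact fun g hg => (hmemF.1 (hall ▸ hg)).2

/-- The second bad involution fixes exactly the fixed points of the first. -/
theorem fixedBy_eq_of_common (hCC : CentralCase Ω Z 3 e) {a b : G} {c z : Ω}
    {E Q J : Subgroup G} {x : G} {p : ℕ} (hD : VData Ω Z a c z E Q J x (2 ^ e) p)
    (hb : IsBad Ω b) (hbc : b • c = c) (hbz : b • z = z) (hbQ : ∀ g ∈ Q, Commute b g) :
    fixedBy Ω a = fixedBy Ω b := by
  have hC := hCC.crit
  obtain ⟨Q', -, hQ', -, htr, -, -, -⟩ := hC.exists_sectKernel (hC.secComm hCC.pure)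
    (hC.one_lt_memAt hCC.pure hCC.exists_bad) hD.bad hD.fix_c
  obtain rfl : Q' = Q := SetLike.ext fun g => (hQ' g).trans (hD.mem_Q g).symm
  refine Set.eq_of_subset_of_ncard_le (fun w hw => ?_)
    (by rw [hCC.card_fix a hD.bad, hCC.card_fix b hb]) (Set.toFinite _)
  rcases eq_or_ne w c with rfl | hwc
  · exact hbc
  obtain ⟨g, hg, rfl⟩ := htr z w hD.fix_y hw hD.ne hwc
  show b • g • z = g • z
  rw [smul_smul, (hbQ g hg).eq, mul_smul, hbz]

/-- Two commuting bad involutions with a bad product cannot fix `q ^ 2 + 1` common points. -/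
theorem false_of_bad_pair (hCC : CentralCase Ω Z 3 e) {a b : G} {c z : Ω}
    {E Q J : Subgroup G} {x : G} {p : ℕ} (hD : VData Ω Z a c z E Q J x (2 ^ e) p)
    (hb : IsBad Ω b) (hab : Commute a b) (habbad : IsBad Ω (a * b)) (hbc : b • c = c)
    (hbz : b • z = z) (hbJ : ∀ j ∈ J, Commute b j)
    (hbig : (2 ^ e) ^ 2 ≤ ((fixedBy Ω a ∩ fixedBy Ω b) \ {c}).ncard)
    {T : Subgroup G} (hT : SData Ω Z a c z E J x (2 ^ e) T) : False := by
  have hC := hCC.crit
  have hbQ := commute_kernel_of_common hCC hD hb hab hbc hbz hbJ hbig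
  have hfix := fixedBy_eq_of_common hCC hD hb hbc hbz hbQ
  have hfix2 : fixedBy Ω a = fixedBy Ω (a * b) := by
    refine Set.eq_of_subset_of_ncard_le (fun w hw => ?_)
      (by rw [hCC.card_fix a hD.bad, hCC.card_fix _ habbad]) (Set.toFinite _)
    have h2 : b • w = w := hfix.subset hw
    show (a * b) • w = w
    rw [mul_smul, h2, hw]
  have hbL : ∀ g ∈ memCent Z a, Commute b g := fun g hg =>
    hC.commute_of_fix (hC.secComm hCC.pure) (hC.one_lt_memAt hCC.pure hCC.exists_bad) hD.bad hab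
      (fun w hw => hfix.subset (show w ∈ fixedBy Ω a from hw)) hg
  have hax : Commute a x := commute_memCent hD.x_le
  have hbx : Commute b x := hbL x hD.x_le
  have hflip : ∀ {u : G}, orderOf u = 2 → IsBad Ω u → Commute x u → u • c = c →
      (∀ j ∈ J, Commute u j) → Flip T E J u := fun {u} hu2 hu hxu huc huJ =>
    ⟨mul_self_eq_one hu2, hT.norm u hxu huc, fun g hg => by
      rcases (hD.mem_E g).1 hg with rfl | hg'
      · exact Commute.one_right u
      · exact hCC.central u hu c huc g hg', huJ⟩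
  have hcenA : ∀ {u : G}, fixedBy Ω a = fixedBy Ω u → ∀ g ∈ T, Commute u g → g ∈ E := by
    intro u hu g hg hug
    refine hT.cen g hg ?_
    have h1 : u • z = z := hu.subset (show z ∈ fixedBy Ω a from hD.fix_y)
    have h2 : g • z ∈ fixedBy Ω a := hu.symm.subset (show u • g • z = g • z by
      rw [smul_smul, hug.eq, mul_smul, h1])
    exact h2
  obtain ⟨g, hg, hgE, hgab⟩ := exists_commute_mul hT.layer
    (hflip hD.bad.1 hD.bad hax.symm hD.fix_c fun j hj => commute_memCent (hD.J_le hj))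
    (hflip hb.1 hb hbx.symm hbc hbJ) hab hT.card_T (hcenA rfl) (hcenA hfix)
  exact hgE (hcenA hfix2 g hg hgab)

end CfsgLib.StrongCrit.CentralThree
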