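import Cfsg.Agent.Lib.StrongCrit.CentralThree.Commute
import Cfsg.Agent.Lib.StrongCrit.CentralThree.End

/-!
The unitary central case does not occur.
-/

set_option autoImplicit false

namespace CfsgLib.StrongCrit.CentralThree

open CfsgLib.Involutions MulAction

universe u

/-- The central case does not occur with fixed sets of `q ^ 3 + 1` points. -/
theorem centralFalse_three : CentralFalse.{u} 3 := by
  intro G _ _ Ω _ _ Z e hCC
  obtain ⟨v, hv⟩ := hCC.exists_bad
  obtain ⟨hv2, c, y, hcy, hvc, hvy⟩ := id hv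
  obtain ⟨E, Q, J, x, p, hD, -⟩ :=
    exists_vdata hCC hv hvc hvy hcy.symm hv2 (Commute.refl v) hvc hvy
  obtain ⟨N, N1, N2, N3, N4, N5, N6⟩ := exists_translations hCC hD
  obtain ⟨a, b, z, ha, hb, hab, habbad, hac, hbc, hzc, haz, hbz, hbig⟩ :=
    exists_bad_pair hCC hD N1 N2 N3 N4 N5 N6
  obtain ⟨E', Q', J', x', p', hD', hbJ⟩ := exists_vdata hCC ha hac haz hzc hb.1 hab hbc hbz
  obtain ⟨T, hT⟩ := exists_section hCC hD'
  exact false_of_bad_pair hCC hD' hb hab habbad hbc hbz hbJ hbig hT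

end CfsgLib.StrongCrit.CentralThree
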