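import Cfsg.Agent.Lib.StrongCrit.CentralThree.Twist

/-!
The unitary central case: the translations centralise the kernel of the section of a bad involution,
and two commuting bad involutions with a bad product share at least `q ^ 2` fixed points besides
their centre.
-/

set_option autoImplicit false

namespace CfsgLib.StrongCrit.CentralThree

open CfsgLib.Involutions MulAction

universe u

variable {G : Type u} [Group G] [Finite G]

section

variable {P E J : Subgroup G} {x : G} {q p : ℕ}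

/-- Two groups meeting in a layer: if a 2-group `N` normalises `P`, centralises `E` and is
normalised by `J` and centralised by `x`, it centralises `P`. -/
theorem Layer.commute_of_norm (hL : Layer P E J q) (hT : Twist P E J x q p)
    (hcard : Nat.card P = q ^ 3) {N : Subgroup G} (hN : IsPGroup 2 N)
    (hnorm : ∀ g ∈ N, ∀ h ∈ P, g * h * g⁻¹ ∈ P) (hEN : ∀ g ∈ N, ∀ e ∈ E, Commute g e)
    (hJN : ∀ j ∈ J, ∀ g ∈ N, j * g * j⁻¹ ∈ N) (hxN : ∀ g ∈ N, Commute x g) :
    ∀ g ∈ N, ∀ h ∈ P, Commute g h := by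
  classical
  have : Fact (Nat.Prime 2) := ⟨Nat.prime_two⟩
  -- the elements of `P` fixed modulo `E`
  let F : Subgroup G :=
    { carrier := {h | h ∈ P ∧ ∀ g ∈ N, g * h * g⁻¹ * h⁻¹ ∈ E}
      one_mem' := ⟨P.one_mem, fun g _ => by simp⟩
      mul_mem' := fun {a b} ha hb => ⟨P.mul_mem ha.1 hb.1, fun g hg => by
        rw [show g * (a * b) * g⁻¹ * (a * b)⁻¹ =
          g * a * g⁻¹ * (g * b * g⁻¹ * b⁻¹ * a⁻¹) by group,
          (hL.central _ (hb.2 g hg) a⁻¹ (P.inv_mem ha.1)).eq,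
          show g * a * g⁻¹ * (a⁻¹ * (g * b * g⁻¹ * b⁻¹)) =
            (g * a * g⁻¹ * a⁻¹) * (g * b * g⁻¹ * b⁻¹) by group]
        exact E.mul_mem (ha.2 g hg) (hb.2 g hg)⟩
      inv_mem' := fun {a} ha => ⟨P.inv_mem ha.1, fun g hg => by
        have he := ha.2 g hg
        rw [show g * a⁻¹ * g⁻¹ * a⁻¹⁻¹ = a⁻¹ * (g * a * g⁻¹ * a⁻¹)⁻¹ * a by group,
          ← (hL.central _ (E.inv_mem he) a⁻¹ (P.inv_mem ha.1)).eq, mul_assoc, inv_mul_cancel,
          mul_one]
        exact E.inv_mem he⟩ }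
  have hEF : E ≤ F := fun e he => ⟨hL.le he, fun g hg => by
    rw [(hEN g hg e he).eq, mul_inv_cancel_right, mul_inv_cancel]; exact E.one_mem⟩
  have hJF : ∀ j ∈ J, ∀ h ∈ F, j * h * j⁻¹ ∈ F := fun j hj h hh => ⟨hL.norm j hj h hh.1, fun g hg => by
    have hg' : j⁻¹ * g * j ∈ N := by simpa using hJN j⁻¹ (J.inv_mem hj) g hg
    rw [show g * (j * h * j⁻¹) * g⁻¹ * (j * h * j⁻¹)⁻¹ =
      j * ((j⁻¹ * g * j) * h * (j⁻¹ * g * j)⁻¹ * h⁻¹) * j⁻¹ by group]
    exact hL.norm_E j hj _ (hh.2 _ hg')⟩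
  have hxF : ∀ h ∈ F, x * h * x⁻¹ ∈ F := fun h hh => ⟨hT.norm h hh.1, fun g hg => by
    rw [show g * (x * h * x⁻¹) * g⁻¹ * (x * h * x⁻¹)⁻¹ =
      g * x * h * (x⁻¹ * g⁻¹) * x * h⁻¹ * x⁻¹ by group, ((hxN g hg).symm).eq,
      show x⁻¹ * g⁻¹ = g⁻¹ * x⁻¹ from ((hxN g hg).inv_left.inv_right).eq,
      show x * g * h * (g⁻¹ * x⁻¹) * x * h⁻¹ * x⁻¹ = x * (g * h * g⁻¹ * h⁻¹) * x⁻¹ by group,
      (hT.fix _ (hh.2 g hg)).eq, mul_inv_cancel_right]
    exact hh.2 g hg⟩
  have hFne : F ≠ E := by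
    intro hFE
    have hn : (E.subgroupOf P).Normal := ⟨fun e he h => by
      show (h : G) * e * (h : G)⁻¹ ∈ E
      rw [← (hL.central (e : G) he (h : G) h.2).eq, mul_inv_cancel_right]
      exact he⟩
    let φ : N → (P →* P) := fun g =>
      { toFun := fun h => ⟨(g : G) * h * (g : G)⁻¹, hnorm g g.2 h h.2⟩
        map_one' := Subtype.ext (by simp)
        map_mul' := fun a b => Subtype.ext (by
          show (g : G) * (a * b) * (g : G)⁻¹ = g * a * (g : G)⁻¹ * (g * b * (g : G)⁻¹)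
          group) }
    have hle : ∀ g : N, E.subgroupOf P ≤ (E.subgroupOf P).comap (φ g) := fun g e he => by
      show (g : G) * e * (g : G)⁻¹ ∈ E
      rw [(hEN (g : G) g.2 (e : G) he).eq, mul_inv_cancel_right]
      exact he
    let act : MulAction N (P ⧸ E.subgroupOf P) :=
      { smul := fun g z => QuotientGroup.map _ _ (φ g) (hle g) z
        one_smul := fun z => by
          induction z using QuotientGroup.induction_on with | H h => ?_
          show ((φ 1 h : P) : P ⧸ E.subgroupOf P) = h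
          congr 1
          exact Subtype.ext (by show (1 : G) * h * (1 : G)⁻¹ = h; simp)
        mul_smul := fun a b z => by
          induction z using QuotientGroup.induction_on with | H h => ?_
          show ((φ (a * b) h : P) : P ⧸ E.subgroupOf P) = ((φ a (φ b h) : P) : P ⧸ E.subgroupOf P)
          congr 1
          exact Subtype.ext (by
            show (a : G) * b * h * ((a : G) * b)⁻¹ = a * (b * h * (b : G)⁻¹) * (a : G)⁻¹
            group) }
    have hq : Nat.card (P ⧸ E.subgroupOf P) = q ^ 2 := by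
      have h1 := Subgroup.card_eq_card_quotient_mul_card_subgroup (E.subgroupOf P)
      rw [Nat.card_congr (Subgroup.subgroupOfEquivOfLe hL.le).toEquiv, hcard, hL.card_E] at h1
      refine Nat.eq_of_mul_eq_mul_right (show 0 < q by have := hL.four_le; omega) ?_
      rw [← h1]; ring
    have heven : 2 ∣ q := by
      obtain ⟨i, hi⟩ := (hL.isTwo.to_le hL.le).exists_card_eq
      rw [hL.card_E] at hi
      rcases i with _ | i
      · have := hL.four_le; omega
      · exact hi ▸ dvd_pow_self 2 (Nat.succ_ne_zero i)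
    obtain ⟨z, hz, hz1⟩ := hN.exists_fixed_point_of_prime_dvd_card_of_fixed_point
      (P ⧸ E.subgroupOf P) (hq ▸ dvd_pow heven two_ne_zero) (a := 1) (fun g => map_one _)
    obtain ⟨h, rfl⟩ := QuotientGroup.mk_surjective z
    have hhF : (h : G) ∈ F := by
      refine ⟨h.2, fun g hg => ?_⟩
      have h1 : ((φ ⟨g, hg⟩ h : P) : P ⧸ E.subgroupOf P) = h := hz ⟨g, hg⟩
      rw [QuotientGroup.eq_iff_div_mem, div_eq_mul_inv] at h1
      exact h1
    rw [hFE] at hhF
    exact hz1 ((QuotientGroup.eq_one_iff h).2 hhF).symm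
  have hFP : F = P := hL.eq_of_invariant hT hcard hEF (fun h hh => hh.1) hJF hxF hFne
  intro g hg h hh
  have hmem : ∀ k ∈ P, g * k * g⁻¹ * k⁻¹ ∈ E := fun k hk => (hFP.ge hk).2 g hg
  have h1 := hL.hom_eq_one hT (fun k => g * k * g⁻¹ * k⁻¹) hmem
    (fun a ha b hb => by
      rw [show g * (a * b) * g⁻¹ * (a * b)⁻¹ =
        g * a * g⁻¹ * (g * b * g⁻¹ * b⁻¹ * a⁻¹) by group,
        (hL.central _ (hmem b hb) a⁻¹ (P.inv_mem ha)).eq]
      group)
    (fun e he => by rw [(hEN g hg e he).eq, mul_inv_cancel_right, mul_inv_cancel])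
    (fun k hk => by
      rw [show g * (x * k * x⁻¹) * g⁻¹ * (x * k * x⁻¹)⁻¹ =
        g * x * k * (x⁻¹ * g⁻¹) * x * k⁻¹ * x⁻¹ by group, ((hxN g hg).symm).eq,
        show x⁻¹ * g⁻¹ = g⁻¹ * x⁻¹ from ((hxN g hg).inv_left.inv_right).eq,
        show x * g * k * (g⁻¹ * x⁻¹) * x * k⁻¹ * x⁻¹ = x * (g * k * g⁻¹ * k⁻¹) * x⁻¹ by group,
        (hT.fix _ (hmem k hk)).eq, mul_inv_cancel_right]) h hh
  exact mul_inv_eq_iff_eq_mul.1 (mul_inv_eq_one.1 h1)

/-- An element of a layer outside `E` commutes with an element outside the group it generates with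
`E`. -/
theorem Layer.exists_commute_pair (hL : Layer P E J q) (hcard : Nat.card P = q ^ 3) :
    ∃ u ∈ P, ∃ u' ∈ P, Commute u u' ∧ u ∉ E ∧ u' ∉ E ∧ u * u' ∉ E := by
  classical
  have hq4 := hL.four_le
  obtain ⟨u, hu, huE⟩ : ∃ u ∈ P, u ∉ E := by
    by_contra hc
    push Not at hc
    have h1 := Subgroup.card_le_of_le hc
    rw [hcard, hL.card_E] at h1
    have : q < q ^ 3 := lt_self_pow₀ (by omega) (by norm_num)
    omega
  let φ : P →* E :=
    { toFun := fun h => ⟨u * h * u⁻¹ * (h : G)⁻¹, hL.comm u hu h h.2⟩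
      map_one' := Subtype.ext (by simp)
      map_mul' := fun a b => Subtype.ext (by
        show u * ((a : G) * b) * u⁻¹ * ((a : G) * b)⁻¹ =
          u * a * u⁻¹ * (a : G)⁻¹ * (u * b * u⁻¹ * (b : G)⁻¹)
        rw [show u * ((a : G) * b) * u⁻¹ * ((a : G) * b)⁻¹ =
          u * a * u⁻¹ * (u * b * u⁻¹ * (b : G)⁻¹ * (a : G)⁻¹) by group,
          (hL.central _ (hL.comm u hu b b.2) _ (P.inv_mem a.2)).eq]
        group) }
  have hker : q ^ 2 ≤ Nat.card φ.ker := by
    have h1 := φ.ker.card_mul_index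
    rw [Subgroup.index_ker, hcard] at h1
    have h2 : Nat.card φ.range ≤ q := hL.card_E ▸ Subgroup.card_le_card_group _
    have h3 : q ^ 2 * q ≤ Nat.card φ.ker * q := by
      calc q ^ 2 * q = Nat.card φ.ker * Nat.card φ.range := by rw [h1]; ring
        _ ≤ _ := Nat.mul_le_mul_left _ h2
    exact Nat.le_of_mul_le_mul_right h3 (by omega)
  by_contra hno
  push Not at hno
  have hsub : ((fun h : P => (h : G)) '' (φ.ker : Set P)) ⊆
      (E : Set G) ∪ (fun k => u⁻¹ * k) '' (E : Set G) := by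
    rintro _ ⟨h, hh, rfl⟩
    by_cases hhE : (h : G) ∈ E
    · exact Or.inl hhE
    refine Or.inr ⟨u * h, hno u hu h h.2 ?_ huE hhE, by group⟩
    have e : u * h * u⁻¹ * (h : G)⁻¹ = 1 := congrArg Subtype.val (MonoidHom.mem_ker.1 hh)
    exact mul_inv_eq_iff_eq_mul.1 (mul_inv_eq_one.1 e)
  have h1 := (Set.ncard_le_ncard hsub (Set.toFinite _)).trans (Set.ncard_union_le _ _)
  have h2 : ((fun k => u⁻¹ * k) '' (E : Set G)).ncard ≤ (E : Set G).ncard :=
    Set.ncard_image_le (Set.toFinite _)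
  rw [Set.ncard_image_of_injective _ Subtype.val_injective] at h1
  have h3 : (E : Set G).ncard = q := (Nat.card_coe_set_eq _).symm.trans hL.card_E
  have h4 : (φ.ker : Set P).ncard = Nat.card φ.ker := (Nat.card_coe_set_eq _).symm
  have h5 : 4 * q ≤ q ^ 2 := by rw [pow_two]; exact Nat.mul_le_mul_right q hq4
  omega

end

variable {Ω : Type u} [MulAction G Ω] [Finite Ω] {Z : Set G} {v x : G} {c y : Ω}
  {E Q J : Subgroup G} {e p : ℕ}

section

variable (hCC : CentralCase Ω Z 3 e) (hD : VData Ω Z v c y E Q J x (2 ^ e) p) {N : Subgroup G}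
    (N1 : E ≤ N) (N2 : ∀ g ∈ N, g • c = c ∧ Commute x g ∧ v * g * v⁻¹ = g⁻¹ ∧ g * g ∈ E)
    (N3 : ∀ g ∈ N, ∀ h ∈ N, Commute g h) (N4 : ∀ e' ∈ E, ∃ g ∈ N, g * g = e')
    (N5 : ∀ j ∈ J, ∀ g ∈ N, j * g * j⁻¹ ∈ N) (N6 : Nat.card N = (2 ^ e) ^ 2)

include hCC hD N1 N2 N3 N5 N6 in
omit [Finite Ω] in
/-- The translations centralise the kernel of the section of `v`. -/
theorem commute_translations : ∀ g ∈ N, ∀ h ∈ Q, Commute g h := by
  have : Fact (Nat.Prime 2) := ⟨Nat.prime_two⟩
  have hN : IsPGroup 2 N := IsPGroup.of_card (n := e * 2) (by rw [N6, ← pow_mul])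
  have hEN : ∀ g ∈ N, ∀ e' ∈ E, Commute g e' := fun g hg e' he' => N3 g hg e' (N1 he')
  have hEv : ∀ e' ∈ E, Commute v e' := fun e' he' =>
    commute_memCent ((hD.mem_Q e').1 (hD.layer.le he')).1
  refine Layer.commute_of_norm hD.layer hD.twist hD.card_Q hN ?_ hEN N5 fun g hg => (N2 g hg).2.1
  intro g hg
  let F : Subgroup G := Q ⊓ Q.comap (MulAut.conj g).toMonoidHom
  suffices hF : Q ≤ F from fun h hh => (hF hh).2
  refine hD.layer.le_of_commutators hD.twist
    (fun e' he' => ⟨hD.layer.le he', ?_⟩) fun h hh => ?_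
  · show g * e' * g⁻¹ ∈ Q
    rw [(hEN g hg e' he').eq, mul_inv_cancel_right]
    exact hD.layer.le he'
  have hk : h * x * h⁻¹ * x⁻¹ ∈ Q := by
    rw [show h * x * h⁻¹ * x⁻¹ = h * (x * h⁻¹ * x⁻¹) by group]
    exact mul_mem hh (hD.twist.norm _ (inv_mem hh))
  refine ⟨hk, ?_⟩
  show g * (h * x * h⁻¹ * x⁻¹) * g⁻¹ ∈ Q
  set h' := g * h * g⁻¹ with hh'
  have hgx : Commute x g := (N2 g hg).2.1
  have heq : g * (h * x * h⁻¹ * x⁻¹) * g⁻¹ = h' * x * h'⁻¹ * x⁻¹ := by
    calc g * (h * x * h⁻¹ * x⁻¹) * g⁻¹ = h' * (g * x * g⁻¹) * h'⁻¹ * (g * x * g⁻¹)⁻¹ := by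
          rw [hh']; group
      _ = _ := by rw [← hgx.eq, mul_inv_cancel_right]
  obtain ⟨hkL, hkc, j, hkj⟩ := (hD.mem_Q _).1 hk
  have hgc := (N2 g hg).1
  refine (hD.mem_Q _).2 ⟨?_, ?_, j, by rw [conj_pow, hkj, mul_one, mul_inv_cancel]⟩
  · have hvh : Commute v h := commute_memCent ((hD.mem_Q h).1 hh).1
    -- `g v g⁻¹` is `v` times a square
    have hgv : g * v * g⁻¹ = g * g * v := by
      have e1 : v * g * v⁻¹ = g⁻¹ := (N2 g hg).2.2.1
      calc g * v * g⁻¹ = g * (v * g⁻¹ * v⁻¹) * v := by group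
        _ = g * (v * g * v⁻¹)⁻¹ * v := by group
        _ = g * g * v := by rw [e1, inv_inv]
    have hvh' : Commute v h' := by
      have h1 : Commute (g * g * v) h' := by
        rw [← hgv]; exact (Commute.conj_iff g).2 hvh
      have h2 : Commute (g * g) h' := by
        have := (Commute.conj_iff g).2 (hD.layer.central _ (N2 g hg).2.2.2 h hh)
        rwa [(hEN g hg _ (N2 g hg).2.2.2).eq, mul_inv_cancel_right] at this
      have := h2.inv_left.mul_left h1
      rwa [inv_mul_cancel_left] at this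
    have hle : (memCent Z v).map (MulAut.conj h').toMonoidHom ≤ memCent Z v := by
      rw [memCent, MonoidHom.map_closure, Subgroup.closure_le]
      rintro _ ⟨s, hs, rfl⟩
      exact Subgroup.subset_closure
        ⟨hCC.crit.base.conj_mem h' s hs.1, (hvh'.mul_right hs.2).mul_right hvh'.inv_right⟩
    rw [heq]
    exact mul_mem (hle ⟨x, hD.x_le, rfl⟩) (inv_mem hD.x_le)
  · rw [mul_smul, mul_smul, inv_smul_eq_iff.2 hgc.symm, hkc, hgc]

omit [Finite G] [Finite Ω] in
include hD in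
theorem eq_one_of_mem_E {g : G} (hg : g ∈ E) (hC : Setting Ω Z) {z : Ω} (hz : g • z = z)
    (hzc : z ≠ c) : g = 1 := by
  rcases (hD.mem_E g).1 hg with h | h
  · exact h
  · exact absurd (hC.unique g h.1 z c hz h.2) hzc

include hCC hD N1 N2 N3 N4 N5 N6 in
/-- Two commuting bad involutions with bad product fix the centre and `q ^ 2` further points. -/
theorem exists_bad_pair : ∃ a b : G, ∃ z : Ω, IsBad Ω a ∧ IsBad Ω b ∧ Commute a b ∧
    IsBad Ω (a * b) ∧ a • c = c ∧ b • c = c ∧ z ≠ c ∧ a • z = z ∧ b • z = z ∧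
      (2 ^ e) ^ 2 ≤ ((fixedBy Ω a ∩ fixedBy Ω b) \ {c}).ncard := by
  classical
  have : Fact (Nat.Prime 2) := ⟨Nat.prime_two⟩
  have hL := hD.layer
  have hbase := hCC.crit.base
  have hfaith := hCC.crit.faith
  have hNQ := commute_translations hCC hD N1 N2 N3 N5 N6
  have hQc : ∀ h ∈ Q, h • c = c := fun h hh => ((hD.mem_Q h).1 hh).2.1
  have hQv : ∀ h ∈ Q, Commute v h := fun h hh => commute_memCent ((hD.mem_Q h).1 hh).1
  -- squaring to one in `N` means lying in `E`
  have hNsq : ∀ g ∈ N, g * g = 1 → g ∈ E := by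
    let φ : N →* E :=
      { toFun := fun g => ⟨(g : G) * g, (N2 g g.2).2.2.2⟩
        map_one' := Subtype.ext (one_mul 1)
        map_mul' := fun a b => Subtype.ext (by
          show (a : G) * b * ((a : G) * b) = (a : G) * a * ((b : G) * b)
          rw [mul_assoc (a : G), ← mul_assoc (b : G), (N3 b b.2 a a.2).eq]
          group) }
    have hsurj : φ.range = ⊤ := by
      refine MonoidHom.range_eq_top.2 fun e' => ?_
      obtain ⟨g, hg, hge⟩ := N4 e' e'.2
      exact ⟨⟨g, hg⟩, Subtype.ext hge⟩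
    have hle : E.subgroupOf N ≤ φ.ker := fun g hg => Subtype.ext (hL.sq_E g hg)
    have hcardk : Nat.card φ.ker ≤ Nat.card (E.subgroupOf N) := by
      rw [Nat.card_congr (Subgroup.subgroupOfEquivOfLe N1).toEquiv, hL.card_E]
      have h1 := φ.ker.card_mul_index
      rw [Subgroup.index_ker, hsurj, Subgroup.card_top, hL.card_E, N6, pow_two] at h1
      exact le_of_eq (Nat.eq_of_mul_eq_mul_right (Nat.two_pow_pos e) h1)
    intro g hg hgg
    have h1 : (⟨g, hg⟩ : N) ∈ φ.ker := Subtype.ext hgg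
    rw [← Subgroup.eq_of_le_of_card_ge hle hcardk] at h1
    exact h1
  -- an element of `N` times an element of `Q` outside `E`, with the same square
  have hmix : ∀ g ∈ N, ∀ h ∈ Q, g * g = h * h → h ∉ E → IsBad Ω (g * h) ∧ (g * h) • c = c ∧
      (∀ k ∈ N, Commute k (g * h)) := by
    intro g hg h hh hsq hhE
    have hc' : (g * h) • c = c := by rw [mul_smul, hQc h hh, (N2 g hg).1]
    have hne : g * h ∉ E := by
      intro hmem
      have hgQ : g ∈ Q := by
        have := mul_mem (hL.le hmem) (inv_mem hh)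
        rwa [mul_inv_cancel_right] at this
      have e1 := (N2 g hg).2.2.1
      rw [(hQv g hgQ).eq, mul_inv_cancel_right] at e1
      have e2 : g * g = 1 := mul_eq_one_iff_eq_inv.2 e1
      exact hhE (hL.mem_of_sq h hh (hsq ▸ e2))
    have hgh : g * h * (g * h) = 1 := by
      rw [(hNQ g hg h hh).symm.mul_mul_mul_comm g h, hsq]
      exact hL.sq_E _ (hL.sq h hh)
    have h2 : orderOf (g * h) = 2 := orderOf_eq_two_iff_mul.2
      ⟨fun e0 => hne (e0 ▸ E.one_mem), hgh⟩
    refine ⟨(hbase.mem_or_isBad hfaith h2 hc').resolve_left fun hm =>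
      hne ((hD.mem_E _).2 (Or.inr ⟨hm, hc'⟩)), hc', fun k hk => ?_⟩
    exact (N3 k hk g hg).mul_right (hNQ k hk h hh)
  obtain ⟨u, hu, u', hu', huu, huE, hu'E, huu'E⟩ := hL.exists_commute_pair hD.card_Q
  obtain ⟨g, hg, hgu⟩ := N4 _ (hL.sq u hu)
  obtain ⟨g', hg', hgu'⟩ := N4 _ (hL.sq u' hu')
  obtain ⟨habad, hac, haN⟩ := hmix g hg u hu hgu huE
  obtain ⟨hb0bad, hb0c, hb0N⟩ := hmix g' hg' u' hu' hgu' hu'E
  obtain ⟨habbad, -, -⟩ := hmix (g * g') (mul_mem hg hg') (u * u') (mul_mem hu hu') (by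
    rw [(N3 g' hg' g hg).mul_mul_mul_comm g g', huu.symm.mul_mul_mul_comm u u', hgu, hgu'])
    huu'E
  set a := g * u with ha
  have hab0 : Commute a (g' * u') :=
    ((haN g' hg').symm.mul_right ((hNQ g hg u' hu').mul_left huu))
  have hprod : g * g' * (u * u') = a * (g' * u') := (hNQ g' hg' u hu).mul_mul_mul_comm g u'
  rw [hprod] at habbad
  set b₀ := g' * u' with hb0
  -- a point of `fix a` other than `c`
  obtain ⟨ha2, p₁, p₂, hp12, hp1, hp2⟩ := id habad
  obtain ⟨d, hd, hdc⟩ : ∃ d, a • d = d ∧ d ≠ c := by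
    rcases eq_or_ne p₁ c with h | h
    · exact ⟨p₂, hp2, fun e0 => hp12 (h.trans e0.symm)⟩
    · exact ⟨p₁, hp1, h⟩
  have hb02 := hb0bad.1
  -- `b₀` or its product with a member fixes a second point of `fix a`
  obtain ⟨s, hs, hsb, hsa, z, hzc, haz, hbz⟩ : ∃ s ∈ E, Commute b₀ s ∧ Commute a s ∧
      ∃ z : Ω, z ≠ c ∧ a • z = z ∧ (b₀ * s) • z = z := by
    set d' := b₀ • d with hd'
    rcases eq_or_ne d' d with heq | hdd
    · exact ⟨1, E.one_mem, Commute.one_right _, Commute.one_right _, d, hdc, hd,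
        by rw [mul_one]; exact heq⟩
    let T : Subgroup G :=
      { carrier := {k | k = 1 ∨ k = a ∨ k = b₀ ∨ k = a * b₀}
        one_mem' := Or.inl rfl
        inv_mem' := fun {k} hk => by
          rcases hk with rfl | rfl | rfl | rfl
          · simp
          · exact Or.inr (Or.inl (inv_eq_self_of_involution ha2))
          · exact Or.inr (Or.inr (Or.inl (inv_eq_self_of_involution hb02)))
          · exact Or.inr (Or.inr (Or.inr (inv_eq_self_of_involution habbad.1)))
        mul_mem' := fun {k l} hk hl => by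
          have haa := mul_self_eq_one ha2
          have hbb := mul_self_eq_one hb02
          have hba : b₀ * a = a * b₀ := hab0.eq.symm
          have e1 : a * (a * b₀) = b₀ := by rw [← mul_assoc, haa, one_mul]
          have e2 : b₀ * (a * b₀) = a := by rw [← mul_assoc, hba, mul_assoc, hbb, mul_one]
          have e3 : a * b₀ * a = b₀ := by rw [mul_assoc, hba, e1]
          have e4 : a * b₀ * b₀ = a := by rw [mul_assoc, hbb, mul_one]
          have e5 : a * b₀ * (a * b₀) = 1 := mul_self_eq_one habbad.1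
          rcases hk with rfl | rfl | rfl | rfl <;> rcases hl with rfl | rfl | rfl | rfl <;>
            simp only [Set.mem_ofPred_eq, one_mul, mul_one, haa, hbb, hba, e1, e2, e3, e4, e5,
              true_or, or_true] }
    have hT2 : IsPGroup 2 T := by
      rintro ⟨k, hk⟩
      refine ⟨1, Subtype.ext ?_⟩
      show k ^ 2 ^ 1 = 1
      rw [pow_one, pow_two]
      rcases hk with rfl | rfl | rfl | rfl
      · exact one_mul 1
      · exact mul_self_eq_one ha2
      · exact mul_self_eq_one hb02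
      · exact mul_self_eq_one habbad.1
    have had' : a • d' = d' := by rw [hd', smul_smul, hab0.eq, mul_smul, hd]
    have hbd' : b₀ • d' = d := by rw [hd', smul_smul, mul_self_eq_one hb02, one_smul]
    obtain ⟨s, hs, hsT⟩ := hbase.exists_swap_centralized hT2 (Ne.symm hdd) (fun k hk => by
      rcases hk with rfl | rfl | rfl | rfl
      · exact Or.inl ⟨one_smul G d, one_smul G d'⟩
      · exact Or.inl ⟨hd, had'⟩
      · exact Or.inr ⟨rfl, hbd'⟩
      · exact Or.inr ⟨by rw [mul_smul, ← hd', had'], by rw [mul_smul, hbd', hd]⟩)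
    have hsa : Commute a s := hsT a (Or.inr (Or.inl rfl))
    have hsb : Commute b₀ s := hsT b₀ (Or.inr (Or.inr (Or.inl rfl)))
    obtain ⟨z, hz⟩ := hbase.exists_fix s hs.1
    rcases eq_or_ne z c with rfl | hzc
    · refine ⟨s, (hD.mem_E s).2 (Or.inr ⟨hs.1, hz⟩), hsb, hsa, d, hdc, hd, ?_⟩
      rw [mul_smul, hs.2, hbd']
    · exact ⟨1, E.one_mem, Commute.one_right _, Commute.one_right _, z, hzc,
        hbase.fix_of_commute ⟨hs.1, hz⟩ hsa,
        by rw [mul_one]; exact hbase.fix_of_commute ⟨hs.1, hz⟩ hsb⟩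
  set b := b₀ * s with hb
  have hsc : s • c = c := by
    rcases (hD.mem_E s).1 hs with h | h
    · rw [h]; exact one_smul G c
    · exact h.2
  have hbc : b • c = c := by rw [hb, mul_smul, hsc, hb0c]
  have hbN : ∀ k ∈ N, Commute k b := fun k hk => (hb0N k hk).mul_right (N3 k hk s (N1 hs))
  have hbad_of : ∀ k : G, IsBad Ω k → Commute k s → k • c = c → IsBad Ω (k * s) := by
    intro k hk hks hkc
    rcases (hD.mem_E s).1 hs with h | h
    · rw [h, mul_one]; exact hk
    · exact hbase.isBad_mul hfaith hk h.1 hks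
  have hbbad : IsBad Ω b := hbad_of b₀ hb0bad hsb hb0c
  have hab : Commute a b := hab0.mul_right hsa
  have habbad' : IsBad Ω (a * b) := by
    rw [hb, ← mul_assoc]
    exact hbad_of _ habbad (hsa.mul_left hsb) (by rw [mul_smul, hb0c, hac])
  refine ⟨a, b, z, habad, hbbad, hab, habbad', hac, hbc, hzc, haz, hbz, ?_⟩
  rw [← N6]
  show Nat.card N ≤ _
  rw [← Set.ncard_univ]
  refine Set.ncard_le_ncard_of_injOn (fun k : N => (k : G) • z) (fun k _ => ⟨⟨?_, ?_⟩, ?_⟩)
    (fun k _ l _ (hkl : (k : G) • z = (l : G) • z) => ?_) (Set.toFinite _)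
  · show a • (k : G) • z = (k : G) • z
    rw [smul_smul, ← (haN k k.2).eq, mul_smul, haz]
  · show b • (k : G) • z = (k : G) • z
    rw [smul_smul, ← (hbN k k.2).eq, mul_smul, hbz]
  · rintro (e0 : (k : G) • z = c)
    exact hzc (MulAction.injective (k : G) (e0.trans (N2 k k.2).1.symm))
  · set m := (k : G)⁻¹ * l with hm
    have hmN : m ∈ N := mul_mem (inv_mem k.2) l.2
    have hmz : m • z = z := by
      show ((k : G)⁻¹ * l) • z = z
      rw [mul_smul, ← hkl, inv_smul_smul]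
    have hsq : m * m = 1 :=
      eq_one_of_mem_E hD (N2 m hmN).2.2.2 hbase (by rw [mul_smul, hmz, hmz]) hzc
    have hm1 : m = 1 := eq_one_of_mem_E hD (hNsq m hmN hsq) hbase hmz hzc
    exact Subtype.ext (inv_mul_eq_one.1 hm1)

end

end CfsgLib.StrongCrit.CentralThree
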